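import Mathlib

/-!
Complemented subgroup lattices (S5900): the general machinery.

* `Int T X` : the interval `[T, X]` of the subgroup lattice is complemented;
* `complement_of` : `[T, X]` complemented, `H ⊓ T = ⊥`, no proper overgroup of `X` contains `H` ⟹ `H` has a complement;
* `crit` : the criterion used for every simple group;
* `crit_unique`, `crit_prime` : `X` in a unique maximal subgroup; `X ≥ T`, `T` of prime order normal in `M`;
* closure properties: `prod`, `of_equiv`, `of_prime`, `of_normal_abelian`, `of_normal_coprime`;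
* `Below n` : the inductive hypothesis (all simple groups of order `< n`), `Below.apply`.
-/

set_option autoImplicit false

namespace Cfsg.Agent.H939.KLat

open Subgroup

universe u v

/-- the interval `[T, X]` is complemented -/
def Int {G : Type u} [Group G] (T X : Subgroup G) : Prop :=
  ∀ Y : Subgroup G, T ≤ Y → Y ≤ X → ∃ C : Subgroup G, T ≤ C ∧ C ≤ X ∧ Y ⊔ C = X ∧ Y ⊓ C = T

/-- `H` has a complement in the subgroup lattice -/
def HasC {G : Type u} [Group G] (H : Subgroup G) : Prop :=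
  ∃ C : Subgroup G, H ⊔ C = ⊤ ∧ H ⊓ C = ⊥

/-- complemented subgroup lattice -/
abbrev CL (G : Type u) [Group G] : Prop := ComplementedLattice (Subgroup G)

section basics

variable {G : Type u} [Group G]

theorem cl_iff : CL G ↔ ∀ H : Subgroup G, HasC H := by
  constructor
  · intro h H
    obtain ⟨C, hC⟩ := h.exists_isCompl H
    exact ⟨C, hC.sup_eq_top, hC.inf_eq_bot⟩
  · intro h
    refine ⟨fun H => ?_⟩
    obtain ⟨C, h1, h2⟩ := h H
    exact ⟨C, isCompl_iff.mpr ⟨disjoint_iff.mpr h2, codisjoint_iff.mpr h1⟩⟩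

theorem hasC_bot : HasC (⊥ : Subgroup G) := ⟨⊤, by simp, by simp⟩
theorem hasC_top : HasC (⊤ : Subgroup G) := ⟨⊥, by simp, by simp⟩

/-- The basic lemma. -/
theorem complement_of {T X : Subgroup G} (hTX : T ≤ X) (hint : Int T X) {H : Subgroup G} (hHT : H ⊓ T = ⊥)
    (hgen : ∀ Y : Subgroup G, X ≤ Y → H ≤ Y → Y = ⊤) : HasC H := by
  obtain ⟨C, hTC, hCX, h1, h2⟩ := hint (T ⊔ (H ⊓ X)) le_sup_left (sup_le hTX inf_le_right)
  refine ⟨C, ?_, ?_⟩
  · have hXle : X ≤ H ⊔ C := by
      rw [← h1]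
      exact sup_le (sup_le (hTC.trans le_sup_right) (inf_le_left.trans le_sup_left)) le_sup_right
    exact hgen _ hXle le_sup_left
  · rw [eq_bot_iff]
    have h3 : H ⊓ C ≤ T := by
      have : H ⊓ C ≤ (T ⊔ (H ⊓ X)) ⊓ C :=
        le_inf ((le_inf inf_le_left (inf_le_right.trans hCX)).trans le_sup_right) inf_le_right
      rwa [h2] at this
    exact (le_inf inf_le_left h3).trans hHT.le

/-- conjugate -/
abbrev cj (g : G) (H : Subgroup G) : Subgroup G := H.map (MulAut.conj g).toMonoidHom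

theorem mem_cj {g x : G} {H : Subgroup G} : x ∈ cj g H ↔ g⁻¹ * x * g ∈ H := by
  constructor
  · rintro ⟨y, hy, rfl⟩
    have : g⁻¹ * (MulAut.conj g).toMonoidHom y * g = y := by
      simp [mul_assoc]
    rw [this]; exact hy
  · intro h
    exact ⟨g⁻¹ * x * g, h, by simp [mul_assoc]⟩

theorem conj_mem_cj {g x : G} {H : Subgroup G} (hx : x ∈ H) : g * x * g⁻¹ ∈ cj g H :=
  mem_cj.mpr (by simpa [mul_assoc] using hx)

theorem cj_cj_inv (g : G) (K : Subgroup G) : cj g⁻¹ (cj g K) = K := by
  ext x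
  rw [mem_cj, mem_cj]
  simp [mul_assoc]

theorem cj_inv_cj (g : G) (K : Subgroup G) : cj g (cj g⁻¹ K) = K := by
  ext x
  rw [mem_cj, mem_cj]
  simp [mul_assoc]

theorem cj_mul (g h : G) (K : Subgroup G) : cj (g * h) K = cj g (cj h K) := by
  ext x
  rw [mem_cj, mem_cj, mem_cj]
  simp [mul_assoc]

theorem cj_one (K : Subgroup G) : cj 1 K = K := by
  ext x
  rw [mem_cj]
  simp

theorem cj_mono {g : G} {H K : Subgroup G} (h : H ≤ K) : cj g H ≤ cj g K := Subgroup.map_mono h

theorem cj_le_iff {g : G} {H K : Subgroup G} : cj g H ≤ K ↔ H ≤ cj g⁻¹ K := by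
  constructor
  · intro h
    have := cj_mono (g := g⁻¹) h
    rwa [cj_cj_inv] at this
  · intro h
    have := cj_mono (g := g) h
    rwa [cj_inv_cj] at this

theorem cj_inf (g : G) (H K : Subgroup G) : cj g (H ⊓ K) = cj g H ⊓ cj g K :=
  Subgroup.map_inf_eq _ _ _ (MulAut.conj g).injective

theorem cj_sup (g : G) (H K : Subgroup G) : cj g (H ⊔ K) = cj g H ⊔ cj g K :=
  Subgroup.map_sup _ _ _

theorem cj_bot (g : G) : cj g (⊥ : Subgroup G) = ⊥ := Subgroup.map_bot _

theorem cj_top (g : G) : cj g (⊤ : Subgroup G) = ⊤ :=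
  Subgroup.map_top_of_surjective _ (MulAut.conj g).surjective

theorem cj_eq_bot {g : G} {H : Subgroup G} : cj g H = ⊥ ↔ H = ⊥ := by
  constructor
  · intro h
    rw [← cj_cj_inv g H, h, cj_bot]
  · rintro rfl
    exact cj_bot g

theorem cj_eq_self_of_mem {g : G} {H : Subgroup G} (h : g ∈ H) : cj g H = H := by
  ext x
  rw [mem_cj]
  constructor
  · intro hx
    have := H.mul_mem (H.mul_mem h hx) (H.inv_mem h)
    simpa [mul_assoc] using this
  · intro hx
    exact H.mul_mem (H.mul_mem (H.inv_mem h) hx) h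

theorem isCoatom_cj {g : G} {M : Subgroup G} (h : IsCoatom M) : IsCoatom (cj g M) := by
  refine ⟨fun he => h.1 ?_, fun Y hY => ?_⟩
  · rw [← cj_cj_inv g M, he, cj_top]
  · have h1 : M < cj g⁻¹ Y := by
      refine lt_of_le_of_ne ?_ ?_
      · have := cj_mono (g := g⁻¹) hY.le
        rwa [cj_cj_inv] at this
      · intro he
        apply hY.ne
        rw [he, cj_inv_cj]
    have h2 := h.2 _ h1
    rw [← cj_inv_cj g Y, h2, cj_top]

theorem hasC_of_cj {g : G} {H : Subgroup G} (h : HasC (cj g H)) : HasC H := by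
  obtain ⟨C, h1, h2⟩ := h
  refine ⟨cj g⁻¹ C, ?_, ?_⟩
  · have := congrArg (cj g⁻¹) h1
    rwa [cj_sup, cj_cj_inv, cj_top] at this
  · have := congrArg (cj g⁻¹) h2
    rwa [cj_inf, cj_cj_inv, cj_bot] at this

/-- **The criterion.** -/
theorem crit {T X : Subgroup G} (hTX : T ≤ X) (hint : Int T X)
    (hH : ∀ H : Subgroup G, H ≠ ⊥ → H ≠ ⊤ → ∃ g : G, cj g H ⊓ T = ⊥ ∧
      ∀ Y : Subgroup G, X ≤ Y → cj g H ≤ Y → Y = ⊤) : CL G := by
  rw [cl_iff]
  intro H
  by_cases h0 : H = ⊥
  · subst h0; exact hasC_bot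
  by_cases h1 : H = ⊤
  · subst h1; exact hasC_top
  obtain ⟨g, h2, h3⟩ := hH H h0 h1
  exact hasC_of_cj (complement_of hTX hint h2 h3)

/-- The complemented interval `[⊥, X]`. -/
theorem int_bot {X : Subgroup G} (h : CL X) : Int ⊥ X := by
  intro Y _ hY
  obtain ⟨C', hC'⟩ := h.exists_isCompl (Y.subgroupOf X)
  have hYm : (Y.subgroupOf X).map X.subtype = Y := by
    rw [Subgroup.subgroupOf_map_subtype, inf_eq_left.mpr hY]
  refine ⟨C'.map X.subtype, bot_le, Subgroup.map_subtype_le C', ?_, ?_⟩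
  · have h := congrArg (Subgroup.map X.subtype) hC'.sup_eq_top
    rw [Subgroup.map_sup, hYm] at h
    rw [h, ← MonoidHom.range_eq_map, Subgroup.range_subtype]
  · have h := congrArg (Subgroup.map X.subtype) hC'.inf_eq_bot
    rw [Subgroup.map_inf_eq _ _ _ X.subtype_injective, hYm, Subgroup.map_bot] at h
    exact h

/-- The interval `[T, X]` from a homomorphism of `X` with kernel `T` onto a group with complemented lattice. -/
theorem int_of_surj {Q : Type v} [Group Q] {T X : Subgroup G} (hTX : T ≤ X)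
    (π : X →* Q) (hsurj : Function.Surjective π) (hker : π.ker = T.subgroupOf X)
    (hK : CL Q) : Int T X := by
  intro Y hTY hY
  obtain ⟨C', hC'⟩ := hK.exists_isCompl ((Y.subgroupOf X).map π)
  have hYm : (Y.subgroupOf X).map X.subtype = Y := by
    rw [Subgroup.subgroupOf_map_subtype, inf_eq_left.mpr hY]
  have hNm : (T.subgroupOf X).map X.subtype = T := by
    rw [Subgroup.subgroupOf_map_subtype, inf_eq_left.mpr hTX]
  have hNsub : T.subgroupOf X ≤ Y.subgroupOf X := Subgroup.comap_mono hTY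
  have hYc : ((Y.subgroupOf X).map π).comap π = Y.subgroupOf X := by
    rw [Subgroup.comap_map_eq, hker, sup_eq_left.mpr hNsub]
  have hNC : T.subgroupOf X ≤ C'.comap π := hker ▸ MonoidHom.ker_le_comap π C'
  refine ⟨(C'.comap π).map X.subtype, ?_, Subgroup.map_subtype_le _, ?_, ?_⟩
  · conv_lhs => rw [← hNm]
    exact Subgroup.map_mono hNC
  · have h := congrArg (Subgroup.comap π) hC'.sup_eq_top
    have h2 : (Y.subgroupOf X) ⊔ C'.comap π = ⊤ := by
      rw [← Subgroup.comap_sup_eq _ _ _ hsurj, hYc, Subgroup.comap_top] at h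
      exact h
    have h3 := congrArg (Subgroup.map X.subtype) h2
    rw [Subgroup.map_sup, hYm] at h3
    rw [h3, ← MonoidHom.range_eq_map, Subgroup.range_subtype]
  · have h := congrArg (Subgroup.comap π) hC'.inf_eq_bot
    rw [Subgroup.comap_inf, hYc] at h
    have h3 := congrArg (Subgroup.map X.subtype) h
    rw [Subgroup.map_inf_eq _ _ _ X.subtype_injective, hYm] at h3
    rw [h3]
    have h4 : Subgroup.comap π ⊥ = T.subgroupOf X := hker
    rw [h4, hNm]

/-- The interval `[T, X]` from the quotient `X / T`. -/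
theorem int_of_quotient {T X : Subgroup G} (hTX : T ≤ X) [(T.subgroupOf X).Normal]
    (hK : CL (X ⧸ T.subgroupOf X)) : Int T X :=
  int_of_surj hTX (QuotientGroup.mk' (T.subgroupOf X)) (QuotientGroup.mk'_surjective _)
    (QuotientGroup.ker_mk' _) hK

theorem of_equiv {Q : Type v} [Group Q] (e : G ≃* Q) (h : CL G) : CL Q :=
  (MulEquiv.mapSubgroup e).complementedLattice_iff.mp h

end basics

section finite

variable {G : Type u} [Group G] [Finite G]

theorem gen_of_coatoms {X H : Subgroup G} (h : ∀ M : Subgroup G, IsCoatom M → X ≤ M → ¬ H ≤ M) :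
    ∀ Y : Subgroup G, X ≤ Y → H ≤ Y → Y = ⊤ := by
  intro Y hX hH
  rcases eq_top_or_exists_le_coatom Y with h1 | ⟨M, hM, hle⟩
  · exact h1
  · exact absurd (hH.trans hle) (h M hM (hX.trans hle))

omit [Finite G] in
theorem exists_cj_not_le [IsSimpleGroup G] {M H : Subgroup G} (hM : M ≠ ⊤) (hH : H ≠ ⊥) :
    ∃ g : G, ¬ cj g H ≤ M := by
  by_contra hcon
  push Not at hcon
  have h1 : H ≤ M.normalCore := by
    intro x hx g
    exact hcon g (conj_mem_cj hx)
  rcases (Subgroup.normalCore_normal M).eq_bot_or_eq_top with h | h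
  · exact hH (by rw [eq_bot_iff, ← h]; exact h1)
  · apply hM
    rw [eq_top_iff, ← h]
    exact Subgroup.normalCore_le M

/-- `X` with complemented lattice, all proper overgroups inside one proper subgroup `M`. -/
theorem crit_unique [IsSimpleGroup G] {X M : Subgroup G} (hX : CL X) (hM : M ≠ ⊤)
    (huniq : ∀ Y : Subgroup G, X ≤ Y → Y ≠ ⊤ → Y ≤ M) : CL G := by
  refine crit (T := ⊥) (X := X) bot_le (int_bot hX) fun H h0 h1 => ?_
  obtain ⟨g, hg⟩ := exists_cj_not_le hM h0
  refine ⟨g, by simp, fun Y hXY hHY => ?_⟩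
  by_contra hne
  exact hg (hHY.trans (huniq Y hXY hne))

/-- `T ≤ X ≤ M`, `T` of prime order `r` and normal in `M`, `[T, X]` complemented, all proper overgroups of `X`
inside `M`. -/
theorem crit_prime [IsSimpleGroup G] {T X M : Subgroup G} (hTX : T ≤ X) (hint : Int T X) (hM : M ≠ ⊤)
    (hT : (Nat.card T).Prime) (hn : ∀ m ∈ M, ∀ t ∈ T, m * t * m⁻¹ ∈ T)
    (huniq : ∀ Y : Subgroup G, X ≤ Y → Y ≠ ⊤ → Y ≤ M) : CL G := by
  set r := Nat.card T with hr
  have hfact : Fact r.Prime := ⟨hT⟩
  have hTM : X ≤ M ∨ M < X := by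
    by_cases h : X = ⊤
    · right
      rw [h]
      exact lt_top_iff_ne_top.mpr hM
    · left; exact huniq X le_rfl h
  -- elements of order `r` of `N(T)` centralise `T`
  have hcent : ∀ x : G, x ^ r = 1 → (∀ t ∈ T, x * t * x⁻¹ ∈ T) → ∀ t ∈ T, x * t = t * x := by
    intro x hx hnx t ht
    by_cases ht1 : t = 1
    · rw [ht1]; simp
    have hcyc : ∀ s ∈ T, ∃ k : ℕ, s = t ^ k := by
      intro s hs
      have hcard : Nat.card T = r := rfl
      have hz : Subgroup.zpowers (⟨t, ht⟩ : T) = ⊤ := by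
        rcases Subgroup.eq_bot_or_eq_top_of_prime_card (Subgroup.zpowers (⟨t, ht⟩ : T)) with h | h
        · exfalso
          rw [Subgroup.zpowers_eq_bot] at h
          exact ht1 (congrArg Subtype.val h)
        · exact h
      have hmem : (⟨s, hs⟩ : T) ∈ Subgroup.zpowers (⟨t, ht⟩ : T) := by rw [hz]; trivial
      rw [← mem_powers_iff_mem_zpowers] at hmem
      obtain ⟨k, hk⟩ := hmem
      exact ⟨k, (congrArg Subtype.val hk).symm⟩
    have htr : t ^ r = 1 := congrArg Subtype.val (pow_card_eq_one' (x := (⟨t, ht⟩ : T)))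
    have hord : orderOf t = r := orderOf_eq_prime htr ht1
    obtain ⟨k, hk⟩ := hcyc _ (hnx t ht)
    -- `x^j t x^-j = t^(k^j)`
    have hpow : ∀ j : ℕ, x ^ j * t * (x ^ j)⁻¹ = t ^ (k ^ j) := by
      intro j
      induction j with
      | zero => simp
      | succ j ih =>
        have h1 : x ^ (j + 1) * t * (x ^ (j + 1))⁻¹ = x * (x ^ j * t * (x ^ j)⁻¹) * x⁻¹ := by
          rw [pow_succ']; group
        rw [h1, ih, ← conj_pow, hk, ← pow_mul, pow_succ']
    have h2 := hpow r
    rw [hx] at h2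
    simp only [one_mul, inv_one, mul_one] at h2
    have h3 : k ^ r ≡ 1 [MOD r] := by
      have : t ^ (k ^ r) = t ^ 1 := by rw [pow_one]; exact h2.symm
      rw [pow_eq_pow_iff_modEq, hord] at this
      exact this
    have h4 : k ^ r ≡ k [MOD r] := by
      have := ZMod.pow_card (k : ZMod r)
      rw [← Nat.cast_pow] at this
      exact (ZMod.natCast_eq_natCast_iff _ _ _).mp this
    have h5 : k ≡ 1 [MOD r] := h4.symm.trans h3
    have h6 : t ^ k = t := by
      have : t ^ k = t ^ 1 := by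
        rw [pow_eq_pow_iff_modEq, hord]; exact h5
      rw [this, pow_one]
    rw [h6] at hk
    calc x * t = x * t * x⁻¹ * x := by group
      _ = t * x := by rw [hk]
  refine crit hTX hint fun H h0 h1 => ?_
  by_contra hcon
  push Not at hcon
  -- for all `g` : `H ≤ M^g` or `T^g ≤ H`
  have hdich : ∀ g : G, cj g H ≤ M ∨ T ≤ cj g H := by
    intro g
    by_cases hT' : cj g H ⊓ T = ⊥
    · left
      obtain ⟨Y, hXY, hHY, hY⟩ := hcon g hT'
      exact hHY.trans (huniq Y hXY hY)
    · right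
      rcases Subgroup.eq_bot_or_eq_top_of_prime_card ((cj g H).subgroupOf T) with h | h
      · exfalso
        apply hT'
        rw [Subgroup.subgroupOf_eq_bot] at h
        exact disjoint_iff.mp h
      · exact Subgroup.subgroupOf_eq_top.mp h
  -- the subgroup generated by the conjugates of `T` inside `H`
  let S : Set G := {x | ∃ g : G, cj g T ≤ H ∧ x ∈ cj g T}
  let H₁ : Subgroup G := Subgroup.closure S
  have hH₁H : H₁ ≤ H := by
    rw [Subgroup.closure_le]
    rintro x ⟨g, hg, hx⟩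
    exact hg hx
  have hcjT : ∀ (h g : G), h ∈ H → cj g T ≤ H → cj (h * g) T ≤ H := by
    intro h g hh hg
    rw [cj_mul]
    have := cj_mono (g := h) hg
    rwa [cj_eq_self_of_mem hh] at this
  have hnormal : ∀ g : G, ∀ x ∈ cj g T, ∀ y ∈ H₁, x * y * x⁻¹ ∈ H₁ := by
    intro g x hx y hy
    rcases hdich g⁻¹ with hle | hle
    · -- `H ≤ M^g`, so `H₁` centralises `T^g`
      rw [cj_le_iff, inv_inv] at hle
      have hc : ∀ s ∈ S, s * x = x * s := by
        rintro s ⟨k, hk, hs⟩
        have hsr : s ^ r = 1 := by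
          rw [mem_cj] at hs
          have h7 : (k⁻¹ * s * k) ^ r = 1 :=
            congrArg Subtype.val (pow_card_eq_one' (x := (⟨k⁻¹ * s * k, hs⟩ : T)))
          have h8 : (k⁻¹ * s * k) ^ r = k⁻¹ * s ^ r * k := by
            have := conj_pow (i := r) (a := k⁻¹) (b := s)
            simpa using this
          rw [h8] at h7
          have : s ^ r = k * (k⁻¹ * s ^ r * k) * k⁻¹ := by group
          rw [this, h7]; group
        have hsM : g⁻¹ * s * g ∈ M := mem_cj.mp (hle (hk hs))
        have h9 : (g⁻¹ * s * g) ^ r = 1 := by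
          have h8 : (g⁻¹ * s * g) ^ r = g⁻¹ * s ^ r * g := by
            have := conj_pow (i := r) (a := g⁻¹) (b := s)
            simpa using this
          rw [h8, hsr]; group
        have h10 := hcent _ h9 (fun t ht => hn _ hsM t ht) _ (mem_cj.mp hx)
        have h11 : s * x = g * (g⁻¹ * s * g * (g⁻¹ * x * g)) * g⁻¹ := by group
        rw [h11, h10]; group
      have hc' : ∀ y ∈ H₁, y * x = x * y := by
        intro y hy
        induction hy using Subgroup.closure_induction with
        | mem s hs => exact hc s hs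
        | one => simp
        | mul a b _ _ ha hb => rw [mul_assoc, hb, ← mul_assoc, ha, mul_assoc]
        | inv a _ ha =>
          have : a⁻¹ * (a * x) * a⁻¹ = a⁻¹ * (x * a) * a⁻¹ := by rw [ha]
          have h12 : x * a⁻¹ = a⁻¹ * x := by
            calc x * a⁻¹ = a⁻¹ * (a * x) * a⁻¹ := by group
              _ = a⁻¹ * (x * a) * a⁻¹ := this
              _ = a⁻¹ * x := by group
          exact h12.symm
      have : x * y * x⁻¹ = y := by rw [← hc' y hy]; group
      rw [this]; exact hy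
    · -- `T^g ≤ H`
      have h7 : cj g T ≤ H := by rw [cj_le_iff]; exact hle
      have hxH₁ : x ∈ H₁ := Subgroup.subset_closure ⟨g, h7, hx⟩
      exact H₁.mul_mem (H₁.mul_mem hxH₁ hy) (H₁.inv_mem hxH₁)
  have hnc : Subgroup.normalClosure (T : Set G) ≤ Subgroup.normalizer (H₁ : Set G) := by
    rw [Subgroup.normalClosure, Subgroup.closure_le]
    intro y hy
    rw [Group.mem_conjugatesOfSet_iff] at hy
    obtain ⟨t, ht, hc⟩ := hy
    obtain ⟨c, hc⟩ := isConj_iff.mp hc
    have hy1 : y ∈ cj c T := by rw [← hc]; exact conj_mem_cj ht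
    rw [SetLike.mem_coe, Subgroup.mem_normalizer_iff]
    intro h
    constructor
    · intro hh
      exact hnormal c y hy1 h hh
    · intro hh
      have h4 := hnormal c y⁻¹ ((cj c T).inv_mem hy1) _ hh
      convert h4 using 1
      group
  have hTne : T ≠ ⊥ := by
    rintro rfl
    rw [Subgroup.card_bot] at hr
    exact Nat.not_prime_one (hr ▸ hT)
  have htop' : Subgroup.normalClosure (T : Set G) = ⊤ := by
    rcases (Subgroup.normalClosure_normal (s := (T : Set G))).eq_bot_or_eq_top with h | h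
    · exfalso
      apply hTne
      rw [eq_bot_iff, ← h]
      exact Subgroup.subset_normalClosure
    · exact h
  rw [htop'] at hnc
  have hHn : H₁.Normal := Subgroup.normalizer_eq_top_iff.mp (top_le_iff.mp hnc)
  rcases hHn.eq_bot_or_eq_top with h | h
  · -- no conjugate of `T` in `H`
    obtain ⟨g, hg⟩ := exists_cj_not_le hM h0
    rcases hdich g with h2 | h2
    · exact hg h2
    · have h3 : cj g⁻¹ T ≤ H := by rw [cj_le_iff, inv_inv]; exact h2
      apply hTne
      have h4 : cj g⁻¹ T ≤ H₁ := fun x hx => Subgroup.subset_closure ⟨g⁻¹, h3, hx⟩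
      rw [h, le_bot_iff, cj_eq_bot] at h4
      exact h4
  · exact h1 (top_le_iff.mp (h ▸ hH₁H))

end finite

section closure

/-- The inductive hypothesis. -/
def Below (n : ℕ) : Prop :=
  ∀ (S : Type) [Group S] [Finite S] [IsSimpleGroup S], Nat.card S < n → CL S

theorem Below.mono {m n : ℕ} (h : Below n) (hmn : m ≤ n) : Below m := by
  intro S _ _ _ hS
  exact h S (lt_of_lt_of_le hS hmn)

theorem Below.apply {n : ℕ} (h : Below n) {S : Type u} [Group S] [Finite S] [IsSimpleGroup S]
    (hS : Nat.card S < n) : CL S := by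
  have e : Shrink.{0} S ≃* S := Shrink.mulEquiv
  have hf : Finite (Shrink.{0} S) := Finite.of_equiv S e.symm.toEquiv
  have hs : IsSimpleGroup (Shrink.{0} S) := (MulEquiv.isSimpleGroup_congr e).mpr inferInstance
  exact of_equiv e (h (Shrink.{0} S) (by rw [Nat.card_congr e.toEquiv]; exact hS))

/-- the induction principle -/
theorem induction
    (step : ∀ (G : Type) [Group G] [Finite G] [IsSimpleGroup G], Below (Nat.card G) → CL G)
    {G : Type u} [Group G] [Finite G] [IsSimpleGroup G] : CL G := by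
  have h : ∀ n, Below n := by
    intro n
    induction n with
    | zero => intro S _ _ _ hS; exact absurd hS (Nat.not_lt_zero _)
    | succ n ih =>
      intro S _ _ _ hS
      exact step S (ih.mono (Nat.lt_succ_iff.mp hS))
  exact (h (Nat.card G + 1)).apply (Nat.lt_succ_self _)

theorem of_prime {G : Type u} [Group G] (h : (Nat.card G).Prime) : CL G := by
  have : Fact (Nat.card G).Prime := ⟨h⟩
  rw [cl_iff]
  intro H
  rcases Subgroup.eq_bot_or_eq_top_of_prime_card H with h | h
  · rw [h]; exact hasC_bot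
  · rw [h]; exact hasC_top

theorem of_subsingleton {G : Type u} [Group G] [Subsingleton G] : CL G := by
  rw [cl_iff]
  intro H
  have : H = ⊥ := Subsingleton.elim _ _
  rw [this]
  exact hasC_bot

theorem prod {A : Type u} {B : Type v} [Group A] [Group B] (hA : CL A) (hB : CL B) : CL (A × B) := by
  rw [cl_iff] at *
  intro H
  obtain ⟨CB, hB1, hB2⟩ := hB (H.map (MonoidHom.snd A B))
  obtain ⟨CA, hA1, hA2⟩ := hA (H.comap (MonoidHom.inl A B))
  refine ⟨CA.prod CB, ?_, ?_⟩
  · have h1 : ∀ a : A, (a, (1 : B)) ∈ H ⊔ CA.prod CB := by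
      intro a
      have ha : a ∈ H.comap (MonoidHom.inl A B) ⊔ CA := by rw [hA1]; trivial
      have hle : (H.comap (MonoidHom.inl A B) ⊔ CA) ≤ (H ⊔ CA.prod CB).comap (MonoidHom.inl A B) := by
        refine sup_le ?_ ?_
        · intro x hx
          exact Subgroup.mem_sup_left (T := CA.prod CB) hx
        · intro x hx
          exact Subgroup.mem_sup_right (S := H) ⟨hx, CB.one_mem⟩
      exact hle ha
    rw [eq_top_iff]
    rintro ⟨a, b⟩ -
    have hb : b ∈ H.map (MonoidHom.snd A B) ⊔ CB := by rw [hB1]; trivial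
    have hle : (H.map (MonoidHom.snd A B) ⊔ CB) ≤ (H ⊔ CA.prod CB).map (MonoidHom.snd A B) := by
      refine sup_le (Subgroup.map_mono le_sup_left) ?_
      intro x hx
      exact ⟨(1, x), Subgroup.mem_sup_right (S := H) ⟨CA.one_mem, hx⟩, rfl⟩
    obtain ⟨⟨a', b'⟩, hab, hb'⟩ := hle hb
    have hb'' : b' = b := hb'
    subst hb''
    have : (a, b') = (a * a'⁻¹, (1 : B)) * (a', b') := by simp
    rw [this]
    exact Subgroup.mul_mem _ (h1 _) hab
  · rw [eq_bot_iff]
    rintro ⟨a, b⟩ ⟨hH, haC, hbC⟩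
    have hb : b ∈ H.map (MonoidHom.snd A B) ⊓ CB := ⟨⟨(a, b), hH, rfl⟩, hbC⟩
    rw [hB2, Subgroup.mem_bot] at hb
    subst hb
    have ha : a ∈ H.comap (MonoidHom.inl A B) ⊓ CA := ⟨hH, haC⟩
    rw [hA2, Subgroup.mem_bot] at ha
    subst ha
    exact Subgroup.one_mem _

/-- `N` a minimal normal abelian subgroup with a complement `L`, `G / N` complemented: `G` complemented. -/
theorem of_normal_abelian {G : Type u} [Group G] {N L : Subgroup G} (hN : ∀ n ∈ N, ∀ m ∈ N, n * m = m * n)
    (hnorm : ∀ g : G, ∀ n ∈ N, g * n * g⁻¹ ∈ N)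
    (hmin : ∀ K : Subgroup G, K ≤ N → (∀ g : G, ∀ k ∈ K, g * k * g⁻¹ ∈ K) → K = ⊥ ∨ K = N)
    (h2 : ∀ g : G, ∃ n ∈ N, ∃ l ∈ L, g = n * l) (hL : CL L) : CL G := by
  rw [cl_iff]
  intro H
  -- the projection of `H` to `L`
  have hNn : N.Normal := ⟨fun n hn g => hnorm g n hn⟩
  let HL : Subgroup G := (N ⊔ H) ⊓ L
  obtain ⟨C, -, hCL, hC1, hC2⟩ := int_bot hL HL bot_le inf_le_right
  have hgen : N ⊔ (H ⊔ C) = ⊤ := by
    rw [eq_top_iff]
    intro g _
    obtain ⟨n, hn, l, hl, rfl⟩ := h2 g
    refine Subgroup.mul_mem _ (Subgroup.mem_sup_left hn) ?_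
    have : L ≤ N ⊔ (H ⊔ C) := by
      rw [← hC1]
      refine sup_le (inf_le_left.trans ?_) (le_sup_right.trans le_sup_right)
      exact sup_le le_sup_left (le_sup_left.trans le_sup_right)
    exact this hl
  -- `(H ⊔ C) ⊓ N` is normal
  have hdi : ∀ K : Subgroup G, N ⊔ K = ⊤ → K ⊓ N = ⊥ ∨ K ⊓ N = N := by
    intro K hK
    refine hmin _ inf_le_right fun g k hk => ?_
    have hg : g ∈ N ⊔ K := by rw [hK]; trivial
    obtain ⟨n, hn, x, hx, rfl⟩ := Subgroup.mem_sup_of_normal_left.mp hg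
    have h3 : x * k * x⁻¹ ∈ K ⊓ N := ⟨K.mul_mem (K.mul_mem hx hk.1) (K.inv_mem hx), hnorm x k hk.2⟩
    have h4 : n * x * k * (n * x)⁻¹ = n * (x * k * x⁻¹) * n⁻¹ := by group
    rw [h4, hN n hn _ h3.2]
    have : x * k * x⁻¹ * n * n⁻¹ = x * k * x⁻¹ := by group
    rw [this]
    exact h3
  by_cases hNH : N ≤ H
  · -- `N ≤ H`
    refine ⟨C, ?_, ?_⟩
    · rw [← hgen]
      exact (sup_eq_right.mpr (hNH.trans le_sup_left)).symm
    · rw [eq_bot_iff, ← hC2]
      refine le_inf (le_inf (inf_le_left.trans le_sup_right) (inf_le_right.trans hCL)) inf_le_right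
  · rcases hdi (H ⊔ C) hgen with h | h
    · -- `(H ⊔ C) ⊓ N = ⊥` : take `N ⊔ C`
      have hHN : H ⊓ N = ⊥ := by
        rw [eq_bot_iff, ← h]
        exact inf_le_inf_right N le_sup_left
      refine ⟨N ⊔ C, ?_, ?_⟩
      · rw [← hgen]
        ac_rfl
      · rw [eq_bot_iff]
        rintro x ⟨hxH, hxNC⟩
        obtain ⟨n, hn, c, hc, rfl⟩ := Subgroup.mem_sup_of_normal_left.mp hxNC
        have hc' : c ∈ HL ⊓ C := by
          refine ⟨⟨?_, hCL hc⟩, hc⟩
          have : c = n⁻¹ * (n * c) := by group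
          rw [this]
          exact Subgroup.mul_mem _ (Subgroup.mem_sup_left (N.inv_mem hn)) (Subgroup.mem_sup_right hxH)
        rw [hC2, Subgroup.mem_bot] at hc'
        subst hc'
        rw [mul_one] at hxH ⊢
        have : n ∈ H ⊓ N := ⟨hxH, hn⟩
        rwa [hHN] at this
    · -- `N ≤ H ⊔ C`
      have hNle : N ≤ H ⊔ C := inf_eq_right.mp h
      refine ⟨C, ?_, ?_⟩
      · rw [← hgen]
        exact (sup_eq_right.mpr hNle).symm
      · rw [eq_bot_iff, ← hC2]
        refine le_inf (le_inf (inf_le_left.trans le_sup_right) (inf_le_right.trans hCL)) inf_le_right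

end closure

end Cfsg.Agent.H939.KLat
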