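import Mathlib
import Cfsg.Agent.H939.Opp

/-!
Elementary abelian groups have complemented subgroup lattices: `cl_of_comm`, `elem_of`, `elemMod_of` (`Q / A` elementary
abelian), `elemMod_of_gen` (the same from generators).
-/

set_option autoImplicit false

namespace Cfsg.Agent.H939.Opp
open Subgroup Cfsg.Agent.H939.KLat
universe u

theorem cl_of_module {E : Type u} [AddCommGroup E] {p : ℕ} [Fact p.Prime] [Module (ZMod p) E] :
    ComplementedLattice (AddSubgroup E) := by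
  have h1 : ComplementedLattice (Submodule (ZMod p) E) := inferInstance
  exact (AddSubgroup.toZModSubmodule (M := E) p).complementedLattice_iff.2 h1

theorem cl_of_comm {E : Type u} [CommGroup E] {p : ℕ} [Fact p.Prime] (hp : ∀ x : E, x ^ p = 1) : CL E := by
  have hm : ∀ x : Additive E, p • x = 0 := fun x => congrArg Additive.ofMul (hp x.toMul)
  have h1 : ComplementedLattice (AddSubgroup (Additive E)) :=
    @cl_of_module (Additive E) _ p _ (AddCommGroup.zmodModule hm)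
  exact (Subgroup.toAddSubgroup (G := E)).complementedLattice_iff.2 h1

theorem cl_of_comm' {E : Type u} [Group E] {p : ℕ} [Fact p.Prime] (hc : ∀ x y : E, x * y = y * x)
    (hp : ∀ x : E, x ^ p = 1) : CL E := by
  let _ : CommGroup E := { (inferInstance : Group E) with mul_comm := hc }
  exact cl_of_comm hp

variable {G : Type u} [Group G]

theorem elemMod_of_int {A Q : Subgroup G} (hAQ : A ≤ Q) (h : Int A Q) : ElemMod A Q := by
  intro D hD h0
  obtain ⟨C, hAC, hCQ, h1, h2⟩ := h (A ⊔ D) le_sup_left (sup_le hAQ hD)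
  refine ⟨C, hCQ, ?_, ?_⟩
  · rw [eq_bot_iff, ← h0]
    refine le_inf inf_le_right ?_
    rw [← h2]
    exact le_inf (inf_le_right.trans le_sup_right) inf_le_left
  · apply le_antisymm (sup_le hCQ hD)
    rw [← h1]
    exact sup_le (sup_le (hAC.trans le_sup_left) le_sup_right) le_sup_left

/-- `Q / A` elementary abelian -/
theorem elemMod_of {A Q : Subgroup G} {p : ℕ} [Fact p.Prime] (hAQ : A ≤ Q)
    (hn : ∀ q ∈ Q, ∀ a ∈ A, q * a * q⁻¹ ∈ A)
    (hc : ∀ x ∈ Q, ∀ y ∈ Q, x * y * x⁻¹ * y⁻¹ ∈ A) (hp : ∀ x ∈ Q, x ^ p ∈ A) : ElemMod A Q := by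
  refine elemMod_of_int hAQ ?_
  have hnor : (A.subgroupOf Q).Normal := ⟨fun a ha q => hn q.1 q.2 a.1 ha⟩
  refine int_of_quotient hAQ ?_
  refine cl_of_comm' (p := p) ?_ ?_
  · intro x y
    obtain ⟨x, rfl⟩ := QuotientGroup.mk_surjective x
    obtain ⟨y, rfl⟩ := QuotientGroup.mk_surjective y
    rw [← QuotientGroup.mk_mul, ← QuotientGroup.mk_mul, QuotientGroup.eq]
    have h1 := hc (y⁻¹ : Q).1 (y⁻¹ : Q).2 (x⁻¹ : Q).1 (x⁻¹ : Q).2
    show (((x * y)⁻¹ * (y * x) : Q) : G) ∈ A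
    convert h1 using 1
    push_cast
    group
  · intro x
    obtain ⟨x, rfl⟩ := QuotientGroup.mk_surjective x
    rw [← QuotientGroup.mk_pow, QuotientGroup.eq_one_iff]
    exact hp x.1 x.2

theorem elem_of {A : Subgroup G} {p : ℕ} [Fact p.Prime]
    (hc : ∀ x ∈ A, ∀ y ∈ A, x * y = y * x) (hp : ∀ x ∈ A, x ^ p = 1) : Elem A := by
  refine ElemMod.elem (elemMod_of (p := p) bot_le ?_ ?_ ?_)
  · intro q _ a ha
    rw [Subgroup.mem_bot] at ha ⊢
    rw [ha]; group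
  · intro x hx y hy
    rw [Subgroup.mem_bot, hc x hx y hy]; group
  · intro x hx
    rw [Subgroup.mem_bot]; exact hp x hx

/-- `Q / A` elementary abelian, from generators of `Q` -/
theorem elemMod_of_gen {A Q : Subgroup G} {p : ℕ} [Fact p.Prime] {S : Set G} (hQ : Q = Subgroup.closure S)
    (hAQ : A ≤ Q) (hn : ∀ q ∈ S, q ∈ Subgroup.normalizer (A : Set G))
    (hc : ∀ x ∈ S, ∀ y ∈ S, x * y * x⁻¹ * y⁻¹ ∈ A) (hp : ∀ x ∈ S, x ^ p ∈ A) : ElemMod A Q := by
  have hN : Q ≤ Subgroup.normalizer (A : Set G) := by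
    rw [hQ, Subgroup.closure_le]; exact hn
  have hn' : ∀ q ∈ Q, ∀ a ∈ A, q * a * q⁻¹ ∈ A := fun q hq a ha => (Subgroup.mem_normalizer_iff.1 (hN hq) a).1 ha
  have hn'' : ∀ q ∈ Q, ∀ a ∈ A, q⁻¹ * a * q ∈ A := fun q hq a ha => by
    have := hn' q⁻¹ (inv_mem hq) a ha
    rwa [inv_inv] at this
  have h1 : ∀ y ∈ S, ∀ x ∈ Q, x * y * x⁻¹ * y⁻¹ ∈ A := by
    intro y hy x hx
    have hx0 := hx
    rw [hQ] at hx
    induction hx using Subgroup.closure_induction with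
    | mem x hx => exact hc x hx y hy
    | one => simp
    | mul a b ha hb iha ihb =>
      have ha' : a ∈ Q := hQ ▸ ha
      have hb' : b ∈ Q := hQ ▸ hb
      have e : a * b * y * (a * b)⁻¹ * y⁻¹ = (a * (b * y * b⁻¹ * y⁻¹) * a⁻¹) * (a * y * a⁻¹ * y⁻¹) := by group
      rw [e]
      exact mul_mem (hn' a ha' _ (ihb hb')) (iha ha')
    | inv a ha iha =>
      have ha' : a ∈ Q := hQ ▸ ha
      have e : a⁻¹ * y * a⁻¹⁻¹ * y⁻¹ = a⁻¹ * (a * y * a⁻¹ * y⁻¹)⁻¹ * a := by group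
      rw [e]
      exact hn'' a ha' _ (inv_mem (iha ha'))
  have h2 : ∀ x ∈ Q, ∀ y ∈ Q, x * y * x⁻¹ * y⁻¹ ∈ A := by
    intro x hx y hy
    rw [hQ] at hy
    induction hy using Subgroup.closure_induction with
    | mem y hy => exact h1 y hy x hx
    | one => simp
    | mul a b ha hb iha ihb =>
      have ha' : a ∈ Q := hQ ▸ ha
      have e : x * (a * b) * x⁻¹ * (a * b)⁻¹ = (x * a * x⁻¹ * a⁻¹) * (a * (x * b * x⁻¹ * b⁻¹) * a⁻¹) := by group
      rw [e]
      exact mul_mem iha (hn' a ha' _ ihb)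
    | inv a ha iha =>
      have ha' : a ∈ Q := hQ ▸ ha
      have e : x * a⁻¹ * x⁻¹ * a⁻¹⁻¹ = a⁻¹ * (x * a * x⁻¹ * a⁻¹)⁻¹ * a := by group
      rw [e]
      exact hn'' a ha' _ (inv_mem iha)
  have h3 : ∀ a ∈ Q, ∀ b ∈ Q, ∀ m : ℕ, ∃ c ∈ A, (a * b) ^ m = a ^ m * b ^ m * c := by
    intro a ha b hb m
    induction m with
    | zero => exact ⟨1, one_mem _, by simp⟩
    | succ m ih =>
      obtain ⟨c, hcA, e⟩ := ih
      have h4 : (b ^ m)⁻¹ * a⁻¹ * b ^ m * a ∈ A := by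
        have := h2 (b ^ m)⁻¹ (inv_mem (pow_mem hb m)) a⁻¹ (inv_mem ha)
        rwa [inv_inv, inv_inv] at this
      refine ⟨(b⁻¹ * ((b ^ m)⁻¹ * a⁻¹ * b ^ m * a) * b) * ((a * b)⁻¹ * c * (a * b)),
        mul_mem (hn'' b hb _ h4) (hn'' (a * b) (mul_mem ha hb) _ hcA), ?_⟩
      rw [pow_succ, e, pow_succ a, pow_succ b]
      group
  refine elemMod_of (p := p) hAQ hn' h2 ?_
  intro x hx
  rw [hQ] at hx
  induction hx using Subgroup.closure_induction with
  | mem x hx => exact hp x hx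
  | one => rw [one_pow]; exact one_mem _
  | mul a b ha hb iha ihb =>
    obtain ⟨c, hcA, e⟩ := h3 a (hQ ▸ ha) b (hQ ▸ hb) p
    rw [e]
    exact mul_mem (mul_mem iha ihb) hcA
  | inv a ha iha => rw [inv_pow]; exact inv_mem iha

end Cfsg.Agent.H939.Opp
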