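import Mathlib
import Cfsg.Agent.H939.Elem
import Cfsg.Agent.KFacts.RgdSL
import Cfsg.Agent.KFacts.RgdTI
import Cfsg.Agent.Nodes.NormalForm

/-!
The opposition criterion for groups with a root group datum (S5900).
`L : Long R r Z` : `Z ≤ X r` the long root subgroup, `r` the dominant root.
-/

set_option autoImplicit false
set_option linter.unusedSectionVars false
set_option linter.dupNamespace false

namespace Cfsg.Agent.H939.RgdA

open CoxeterSystem Cfsg.Agent.ChevalleyStructure.CoxeterGeom Cfsg.Agent.Tits.Roots Cfsg.Agent.Tits.Core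
  Cfsg.Agent.Tits.RootComb Cfsg.Agent.Tits.Exchange Cfsg.Agent.Nodes.Reps Cfsg.Agent.Nodes.BNOf
  Cfsg.Agent.Nodes.StabComb Cfsg.Agent.Nodes.Bruhat Cfsg.Agent.Nodes.OppDec Cfsg.Agent.Nodes.LeviDec
  Cfsg.Agent.Nodes.NormX Cfsg.Agent.Nodes.Coroot Cfsg.Agent.KFacts.RgdSL Cfsg.Agent.Nodes.PosPair
open scoped commutatorElement

variable {I W Y : Type*} [Fintype I] [DecidableEq I] [Group W] [Group Y] {M : CoxeterMatrix I}
  {cs : CoxeterSystem M W} {A : I → I → ℤ} {h : IsCartan M A} {p : ℕ} {T : Subgroup Y} {n : I → Y}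
  {X : (I → ℤ) → Subgroup Y}

/-! ### rank one -/

section RankOne

variable (R : RGD cs h p T n X)

include R

theorem eq_one_or_simple {i : I} {w : W} (hw : w ∈ WJ cs {i}) : w = 1 ∨ w = cs.simple i := by
  have h1 : WJ cs {i} ≤ Subgroup.zpowers (cs.simple i) := by
    unfold WJ
    rw [Subgroup.closure_le]
    rintro _ ⟨j, hj, rfl⟩
    rw [Set.mem_singleton_iff] at hj
    subst hj
    exact Subgroup.mem_zpowers _
  have h2 := h1 hw
  rw [Subgroup.mem_zpowers_iff] at h2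
  obtain ⟨k, rfl⟩ := h2
  rcases Int.even_or_odd k with ⟨m, hm⟩ | ⟨m, hm⟩
  · left
    rw [hm, ← two_mul, zpow_mul, zpow_two, cs.simple_mul_simple_self, one_zpow]
  · right
    rw [hm, zpow_add, zpow_mul, zpow_two, cs.simple_mul_simple_self, one_zpow, one_mul, zpow_one]

theorem X_le_PosJ {i : I} : UJ cs h X {i} = X (sr i) := by
  apply le_antisymm
  · refine RGD.Sup_le fun x hx => ?_
    have : x = sr i := hx.1.eq_sr hx.2.1 i fun k hk => hx.2.2 k (by simpa using hk)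
    rw [this]
  · exact RGD.le_Sup (sr_mem_PosJ (Set.mem_singleton i))

/-- `N(X_i) ⊓ L_i = X_i T` -/
theorem mem_BJ_of_normalizer [Finite W] {i : I} {y : Y} (hy : y ∈ LJ cs h T X {i})
    {z : Y} (hz : z ∈ X (sr i)) (hz1 : z ≠ 1) (hyz : y * z * y⁻¹ ∈ X (sr i)) : y ∈ BJ cs h T X {i} := by
  obtain ⟨w, hw, hc⟩ := exists_cellJ R hy
  rcases eq_one_or_simple R hw with rfl | rfl
  · exact hc.mem_of_one
  · exfalso
    obtain ⟨b₁, hb₁, k, hk, b₂, hb₂, rfl⟩ := hc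
    have hBn : BJ cs h T X {i} ≤ Subgroup.normalizer (X (sr i) : Set Y) := by
      unfold BJ
      rw [X_le_PosJ R]
      refine sup_le (fun t ht => ?_) Subgroup.le_normalizer
      rw [mem_normalizer_iff_cj]
      exact R.tor _ (isRoot_sr cs h i) t ht
    have h1 : b₂ * z * b₂⁻¹ ∈ X (sr i) := (Subgroup.mem_normalizer_iff.1 (hBn hb₂) z).1 hz
    have h2 : k * (b₂ * z * b₂⁻¹) * k⁻¹ ∈ X (-sr i) := by
      have := R.conj_mem hk (isRoot_sr cs h i) h1
      rwa [rep_simple_sr] at this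
    have h3 : k * (b₂ * z * b₂⁻¹) * k⁻¹ ∈ X (sr i) := by
      have := (Subgroup.mem_normalizer_iff.1 (hBn (inv_mem hb₁)) _).1 hyz
      have e : b₁⁻¹ * (b₁ * k * b₂ * z * (b₁ * k * b₂)⁻¹) * b₁⁻¹⁻¹ = k * (b₂ * z * b₂⁻¹) * k⁻¹ := by group
      rwa [e] at this
    have h4 : sr i ≠ -sr i := by
      intro h5
      have h6 := congrFun h5 i
      rw [Pi.neg_apply, sr_self] at h6
      omega
    have h5 : k * (b₂ * z * b₂⁻¹) * k⁻¹ ∈ X (sr i) ⊓ X (-sr i) := ⟨h3, h2⟩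
    rw [X_inf_X R (isRoot_sr cs h i) (isRoot_sr cs h i).neg h4, Subgroup.mem_bot] at h5
    apply hz1
    have e : z = b₂⁻¹ * (k⁻¹ * (k * (b₂ * z * b₂⁻¹) * k⁻¹) * k) * b₂ := by group
    rw [e, h5]; group

/-- elements of `p`-power order of `X_i T` lie in `X_i` -/
theorem mem_X_of_BJ [Finite W] [Fact p.Prime] [Finite Y] {i : I} {y : Y} (hy : y ∈ BJ cs h T X {i}) {k : ℕ}
    (hyp : y ^ p ^ k = 1) : y ∈ X (sr i) := by
  have hT : T ≤ Subgroup.normalizer (X (sr i) : Set Y) := fun t ht => by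
    rw [mem_normalizer_iff_cj]
    exact R.tor _ (isRoot_sr cs h i) t ht
  unfold BJ at hy
  rw [X_le_PosJ R] at hy
  have h1 : y ∈ ((T ⊔ X (sr i) : Subgroup Y) : Set Y) := hy
  rw [Subgroup.coe_mul_of_left_le_normalizer_right _ _ hT, Set.mem_mul] at h1
  obtain ⟨t, ht, x, hx, rfl⟩ := h1
  -- `(t x)^m = t^m x'`
  have key : ∀ m : ℕ, ∃ x' ∈ X (sr i), (t * x) ^ m = t ^ m * x' := by
    intro m
    induction m with
    | zero => exact ⟨1, one_mem _, by simp⟩
    | succ m ih =>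
      obtain ⟨x', hx', e⟩ := ih
      have h2 : t⁻¹ * x' * t ∈ X (sr i) := by
        have := (Subgroup.mem_normalizer_iff.1 (hT (inv_mem ht)) x').1 hx'
        rwa [inv_inv] at this
      refine ⟨t⁻¹ * x' * t * x, mul_mem h2 hx, ?_⟩
      rw [pow_succ, e, pow_succ]; group
  obtain ⟨x', hx', e⟩ := key (p ^ k)
  rw [hyp] at e
  have h2 : t ^ p ^ k ∈ X (sr i) ⊓ T := by
    refine ⟨?_, pow_mem ht _⟩
    have h3 : t ^ p ^ k = x'⁻¹ := eq_inv_of_mul_eq_one_left e.symm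
    have h4 : t ^ p ^ k ∈ X (sr i) := by rw [h3]; exact (X (sr i)).inv_mem hx'
    exact h4
  rw [X_inf_T R (isRoot_sr cs h i), Subgroup.mem_bot] at h2
  have h3 : t = 1 := by
    have h4 : orderOf t ∣ p ^ k := orderOf_dvd_of_pow_eq_one h2
    have h5 : orderOf t ∣ Nat.card T := by
      have := orderOf_dvd_natCard (⟨t, ht⟩ : T)
      rwa [Subgroup.orderOf_mk] at this
    have h6 := Nat.Coprime.coprime_dvd_left h5 (R.tcop.pow_right k)
    have h7 : orderOf t ∣ 1 := by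
      rw [← Nat.coprime_self (orderOf t) |>.1 (Nat.Coprime.coprime_dvd_right h4 h6)]
    exact orderOf_eq_one_iff.1 (Nat.dvd_one.1 h7)
  rw [h3, one_mul]
  exact hx

/-- a `p`-subgroup of `L_i` meeting `X_i` lies in `X_i` -/
theorem le_X_of_meet [Finite W] [Fact p.Prime] [Finite Y] {i : I} {P : Subgroup Y} (hP : IsPGroup p P)
    (hPL : P ≤ LJ cs h T X {i}) (hm : P ⊓ X (sr i) ≠ ⊥) : P ≤ X (sr i) := by
  by_contra hcon
  have hnil : Group.IsNilpotent P := hP.isNilpotent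
  have hlt : (X (sr i)).subgroupOf P < ⊤ := by
    rw [lt_top_iff_ne_top]
    intro h1
    exact hcon (Subgroup.subgroupOf_eq_top.1 h1)
  have h2 := Group.normalizerCondition_of_isNilpotent _ hlt
  obtain ⟨y, hy, hy'⟩ := SetLike.exists_of_lt h2
  apply hy'
  rw [Subgroup.mem_subgroupOf]
  obtain ⟨⟨z, hz⟩, hz1⟩ := Subgroup.ne_bot_iff_exists_ne_one.1 hm
  have hz1' : z ≠ 1 := fun h3 => hz1 (Subtype.ext h3)
  have h3 := (Subgroup.mem_normalizer_iff.1 hy ⟨z, hz.1⟩).1 hz.2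
  have h4 : (y : Y) * z * (y : Y)⁻¹ ∈ X (sr i) := h3
  have h5 := mem_BJ_of_normalizer R (hPL y.2) hz.2 hz1' h4
  obtain ⟨k, hk⟩ := hP y
  exact mem_X_of_BJ R h5 (k := k) (by
    have := congrArg Subtype.val hk
    simpa using this)

theorem le_X_of_meet' [Finite W] [Fact p.Prime] [Finite Y] {i : I} {P : Subgroup Y} (hP : IsPGroup p P)
    (hPL : P ≤ LJ cs h T X {i}) (hm : P ⊓ X (-sr i) ≠ ⊥) : P ≤ X (-sr i) := by
  have hn : n i ∈ LJ cs h T X {i} := n_mem_LJ R (Set.mem_singleton i)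
  have hX : cj (n i) (X (-sr i)) = X (sr i) := by
    rw [R.conj i _ (isRoot_sr cs h i).neg, map_neg, rep_simple_sr, neg_neg]
  have h1 : cj (n i) P ≤ X (sr i) := by
    refine le_X_of_meet R (hP.map _) ?_ ?_
    · rw [← cj_eq_of_mem hn]; exact cj_mono _ hPL
    · intro h2
      apply hm
      rw [← hX] at h2
      have h3 : cj (n i) (P ⊓ X (-sr i)) ≤ ⊥ := by
        rw [← h2]
        exact le_inf (cj_mono _ inf_le_left) (cj_mono _ inf_le_right)
      have h4 := cj_mono (n i)⁻¹ h3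
      rw [cj_inv_cj] at h4
      rw [eq_bot_iff]
      refine h4.trans ?_
      intro x hx
      rw [mem_cj, Subgroup.mem_bot] at hx
      rw [Subgroup.mem_bot]
      have : x = (n i)⁻¹ * ((n i)⁻¹⁻¹ * x * (n i)⁻¹) * n i := by group
      rw [this, hx]; group
  rw [← hX] at h1
  exact (cj_le_cj_iff _).1 h1

/-- **the opposite root groups met by `K ≤ L_i` are conjugate in `K`** -/
theorem exists_conj_rank_one [Finite W] [Fact p.Prime] [Finite Y] {i : I} {K : Subgroup Y}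
    (hK : K ≤ LJ cs h T X {i}) (h1 : K ⊓ X (sr i) ≠ ⊥) (h2 : K ⊓ X (-sr i) ≠ ⊥) :
    ∃ g ∈ K, ∃ b ∈ BJ cs h T X {i}, g = n i * b := by
  have hp1 : IsPGroup p ((X (sr i)).subgroupOf K) :=
    (R.pgrp i).comap_of_injective K.subtype (Subgroup.subtype_injective _)
  have hp2 : IsPGroup p ((X (-sr i)).subgroupOf K) :=
    (R.pgrp' (isRoot_sr cs h i).neg).comap_of_injective K.subtype (Subgroup.subtype_injective _)
  obtain ⟨P, hP⟩ := hp1.exists_le_sylow
  obtain ⟨Q, hQ⟩ := hp2.exists_le_sylow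
  obtain ⟨g, hg⟩ := MulAction.exists_smul_eq K P Q
  obtain ⟨⟨z, hz⟩, hz1⟩ := Subgroup.ne_bot_iff_exists_ne_one.1 h1
  have hz1' : z ≠ 1 := fun h3 => hz1 (Subtype.ext h3)
  have hQle : (Q : Subgroup K).map K.subtype ≤ X (-sr i) := by
    refine le_X_of_meet' R (Q.isPGroup'.map _) ((Subgroup.map_subtype_le _).trans hK) ?_
    intro h3
    apply h2
    rw [eq_bot_iff, ← h3]
    intro x hx
    exact ⟨⟨⟨x, hx.1⟩, hQ hx.2, rfl⟩, hx.2⟩
  have hgz : (g : Y) * z * (g : Y)⁻¹ ∈ X (-sr i) := by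
    apply hQle
    refine ⟨g * ⟨z, hz.1⟩ * g⁻¹, ?_, rfl⟩
    rw [← hg]
    show g * ⟨z, hz.1⟩ * g⁻¹ ∈ ((g • P : Sylow p K) : Subgroup K)
    rw [Sylow.coe_subgroup_smul]
    exact Subgroup.smul_mem_pointwise_smul (⟨z, hz.1⟩ : K) (MulAut.conj g) _ (hP hz.2)
  refine ⟨g, g.2, (n i)⁻¹ * g, ?_, by group⟩
  refine mem_BJ_of_normalizer R (mul_mem (inv_mem (n_mem_LJ R (Set.mem_singleton i))) (hK g.2)) hz.2 hz1' ?_
  have h3 := R.conj_mem' (rp_simple cs R.nsys i) (isRoot_sr cs h i).neg hgz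
  rw [cs.inv_simple, map_neg, rep_simple_sr, neg_neg] at h3
  have e : (n i)⁻¹ * (g : Y) * z * ((n i)⁻¹ * (g : Y))⁻¹ = (n i)⁻¹ * ((g : Y) * z * (g : Y)⁻¹) * n i := by group
  rw [e]; exact h3

end RankOne

/-! ### the class of long root subgroups -/

section LongRoot

variable {R : RGD cs h p T n X} {r : I → ℤ} {Z : Subgroup Y} (L : Long R r Z)

theorem exists_neg [Finite W] (hr : IsRoot cs h r) : ∃ w : W, rep cs h w r = -r := by
  obtain ⟨w, i, rfl⟩ := hr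
  refine ⟨w * cs.simple i * w⁻¹, ?_⟩
  rw [rep_mul_apply, rep_mul_apply, rep_inv_apply, rep_simple_sr, map_neg]

include L

theorem X_le_normalizer_Z [Finite W] : X r ≤ Subgroup.normalizer (Z : Set Y) :=
  le_trans (le_trans (RGD.le_Sup (S := RGD.Pos cs h) ⟨L.root, L.r_nonneg⟩) RGD.U_le_B) L.B

theorem stab' {w : W} {k : Y} (hk : Rp cs R.nsys w k) (hw : rep cs h w r = r) : cj k Z = Z := L.stab w k hk hw

/-- the opposite root subgroup -/
theorem r1 [Finite W] {w : W} {s : Y} (hs : Rp cs R.nsys w s) (hw : rep cs h w r = -r) {x : Y} (hx : x ∈ Z)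
    (hx1 : x ≠ 1) : ∃ g : Y, cj s Z = cj g Z ∧ cj x (cj s Z) = cj (g * s) Z := by
  obtain ⟨w', hw', a, ha, b, hb, m, hm, e⟩ := exists_mu R L.root (L.le hx) hx1
  have hw'r : rep cs h w' r = -r := by
    rw [hw', cpr_self cs h L.root, two_smul, sub_add_cancel_left]
  have hXs : X (-r) = cj s (X r) := by rw [R.conj_rp hs L.root, hw]
  have hnorm : ∀ y ∈ X (-r), cj y (cj s Z) = cj s Z := by
    intro y hy
    rw [hXs, mem_cj] at hy
    have h1 := mem_normalizer_iff_cj.1 (X_le_normalizer_Z L hy)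
    have h2 : y = s * (s⁻¹ * y * s) * s⁻¹ := by group
    rw [h2, ← cj_mul, mul_assoc (s * _), inv_mul_cancel, mul_one, cj_mul, h1]
  have hms : cj m (cj s Z) = Z := by
    rw [← cj_mul]
    refine L.stab _ _ (hm.mul hs) ?_
    rw [rep_mul_apply, hw, map_neg, hw'r, neg_neg]
  have hss : cj (s * s) Z = Z := by
    refine L.stab _ _ (hs.mul hs) ?_
    rw [rep_mul_apply, hw, map_neg, hw, neg_neg]
  have hx' : x = a⁻¹ * m * b⁻¹ := by rw [e]; group
  refine ⟨a⁻¹ * s, ?_, ?_⟩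
  · rw [cj_mul, hnorm _ (inv_mem ha)]
  · rw [hx', cj_mul, hnorm _ (inv_mem hb), cj_mul, hms, mul_assoc, cj_mul a⁻¹, hss]

theorem norm_VJ [Finite W] (hG : GG cs h T X = ⊤) {g : Y} (hg : cj g Z = Z) :
    cj g (VJ cs h X (orth cs h r)) = VJ cs h X (orth cs h r) := by
  have h1 : g ∈ Subgroup.normalizer (Z : Set Y) ⊓ GG cs h T X := ⟨mem_normalizer_iff_cj.2 hg, by rw [hG]; trivial⟩
  rw [L.normalizer_inf_GG] at h1
  exact mem_normalizer_iff_cj.1 (PJ_le_normalizer_VJ R _ h1)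

theorem VJ_le_norm [Finite W] {q : Y} (hq : q ∈ VJ cs h X (orth cs h r)) : cj q Z = Z :=
  mem_normalizer_iff_cj.1 (L.B (VJ_le_B _ hq))

theorem cj_VJ [Finite W] {w : W} {s : Y} (hs : Rp cs R.nsys w s) (hw : rep cs h w r = -r) :
    cj s (VJ cs h X (orth cs h r)) = VNJ cs h X (orth cs h r) := by
  have := Fintype.ofFinite W
  have hw' : rep cs h w⁻¹ r = -r := by
    have h9 : rep cs h w⁻¹ (rep cs h w r) = r := rep_inv_apply cs h w r
    rw [hw, map_neg] at h9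
    exact neg_eq_iff_eq_neg.1 h9
  apply le_antisymm
  · refine cj_Sup_le R hs (fun x hx => hx.1) fun x hx => ?_
    rw [mem_NotNJ_iff L.dom (hx.1.act w)]
    have h1 := form_pos_of_NotJ L.dom hx
    rw [← form_rep cs h w, hw, form_neg_left] at h1
    omega
  · have h1 : cj s⁻¹ (VNJ cs h X (orth cs h r)) ≤ VJ cs h X (orth cs h r) := by
      refine cj_Sup_le R hs.inv (fun x hx => NotNJ.isRoot hx) fun x hx => ?_
      rw [mem_NotJ_iff L.dom ((NotNJ.isRoot hx).act _)]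
      have h2 := (mem_NotNJ_iff L.dom (NotNJ.isRoot hx)).1 hx
      rw [← form_rep cs h w⁻¹, hw', form_neg_left] at h2
      omega
    have h2 := cj_mono s h1
    rwa [cj_cj_inv] at h2

theorem Z_le_VJ [Finite W] : Z ≤ VJ cs h X (orth cs h r) := by
  have := Fintype.ofFinite W
  refine L.le.trans (RGD.le_Sup (S := NotJ cs h (orth cs h r)) ?_)
  rw [mem_NotJ_iff L.dom L.root]
  exact form_pos cs h L.root.ne_zero

theorem gen [Finite W] [IsSimpleGroup Y] (hG : GG cs h T X = ⊤) {w : W} {s : Y} (hs : Rp cs R.nsys w s)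
    (hw : rep cs h w r = -r) : VJ cs h X (orth cs h r) ⊔ cj s (VJ cs h X (orth cs h r)) = ⊤ := by
  have := Fintype.ofFinite W
  rw [cj_VJ L hs hw]
  set K := VJ cs h X (orth cs h r) ⊔ VNJ cs h X (orth cs h r) with hK
  have h1 : LJ cs h T X (orth cs h r) ≤ Subgroup.normalizer (K : Set Y) := by
    intro l hl
    rw [mem_normalizer_iff_cj, hK, cj_sup, mem_normalizer_iff_cj.1 (LJ_le_normalizer_VJ R _ hl),
      mem_normalizer_iff_cj.1 (LJ_le_normalizer_VNJ R _ hl)]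
  have h2 : GG cs h T X ≤ Subgroup.normalizer (K : Set Y) := by
    refine sup_le (T_le_LJ.trans h1) (RGD.Sup_le fun x hx => ?_)
    rcases lt_trichotomy (form cs h r x) 0 with h3 | h3 | h3
    · refine le_trans ?_ Subgroup.le_normalizer
      exact (RGD.le_Sup (S := NotNJ cs h (orth cs h r)) ((mem_NotNJ_iff L.dom hx).2 h3)).trans le_sup_right
    · exact (X_le_LJ ((mem_RootsJ_iff L.dom hx).2 h3)).trans h1
    · refine le_trans ?_ Subgroup.le_normalizer
      exact (RGD.le_Sup (S := NotJ cs h (orth cs h r)) ((mem_NotJ_iff L.dom hx).2 h3)).trans le_sup_left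
  rw [hG, top_le_iff] at h2
  have h3 : K.Normal := Subgroup.normalizer_eq_top_iff.1 h2
  rcases h3.eq_bot_or_eq_top with h4 | h4
  · exfalso
    apply L.ne
    rw [eq_bot_iff, ← h4]
    exact (Z_le_VJ L).trans le_sup_left
  · exact h4

/-- transitivity -/
theorem tr [Finite W] [Fact p.Prime] [Finite Y] {w : W} {s : Y} (hs : Rp cs R.nsys w s)
    (hw : rep cs h w r = -r) {H : Subgroup Y} (h1 : H ⊓ Z ≠ ⊥) (h2 : H ⊓ cj s Z ≠ ⊥) :
    ∃ g ∈ H, cj g Z = cj s Z := by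
  obtain ⟨v, i, hv⟩ := L.root
  obtain ⟨k, hk⟩ := exists_rp cs R.nsys v
  have hXr : X r = cj k (X (sr i)) := by rw [R.conj_rp hk (isRoot_sr cs h i), hv]
  have hXr' : X (-r) = cj k (X (-sr i)) := by rw [R.conj_rp hk (isRoot_sr cs h i).neg, map_neg, hv]
  have hZs : cj s Z ≤ X (-r) := by
    rw [← hw, ← R.conj_rp hs L.root]
    exact cj_mono s L.le
  have hXL : X (sr i) ≤ LJ cs h T X {i} :=
    X_le_LJ (PosJ_subset _ (sr_mem_PosJ (Set.mem_singleton i)))
  have hXL' : X (-sr i) ≤ LJ cs h T X {i} :=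
    X_le_LJ (RootsJ.neg (PosJ_subset _ (sr_mem_PosJ (Set.mem_singleton i))))
  have hne : ∀ {B C : Subgroup Y}, H ⊓ B ≠ ⊥ → B ≤ cj k C → C ≤ LJ cs h T X {i} →
      (cj k⁻¹ H ⊓ LJ cs h T X {i}) ⊓ C ≠ ⊥ := by
    intro B C hB hBC hC
    obtain ⟨⟨z, hz⟩, hz1⟩ := Subgroup.ne_bot_iff_exists_ne_one.1 hB
    have hz1' : z ≠ 1 := fun h3 => hz1 (Subtype.ext h3)
    intro h3
    apply hz1'
    have h4 : k⁻¹ * z * k ∈ C := mem_cj.1 (hBC hz.2)
    have h5 : k⁻¹ * z * k ∈ (cj k⁻¹ H ⊓ LJ cs h T X {i}) ⊓ C := by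
      refine ⟨⟨?_, hC h4⟩, h4⟩
      have := conj_mem_cj (g := k⁻¹) (A := H).2 hz.1
      rwa [inv_inv] at this
    rw [h3, Subgroup.mem_bot] at h5
    have : z = k * (k⁻¹ * z * k) * k⁻¹ := by group
    rw [this, h5]; group
  obtain ⟨g, hg, b, hb, hgb⟩ := exists_conj_rank_one R (K := cj k⁻¹ H ⊓ LJ cs h T X {i}) inf_le_right
    (hne h1 (L.le.trans hXr.le) hXL) (hne h2 (hZs.trans hXr'.le) hXL')
  refine ⟨k * g * k⁻¹, ?_, ?_⟩
  · have h3 : g ∈ cj k⁻¹ H := hg.1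
    rw [mem_cj, inv_inv] at h3
    exact h3
  · have hb' : cj (k * b * k⁻¹) Z = Z := by
      have h3 : BJ cs h T X {i} ≤ cj k⁻¹ (Subgroup.normalizer (Z : Set Y)) := by
        unfold BJ
        rw [X_le_PosJ R]
        refine sup_le ?_ ?_
        · intro t ht
          rw [mem_cj, inv_inv]
          have h4 : k * t * k⁻¹ ∈ T := by
            have := mem_normalizer_iff_cj.1 hk.mem_normalizer
            have h5 : k * t * k⁻¹ ∈ cj k T := conj_mem_cj.2 ht
            rwa [this] at h5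
          exact L.B (RGD.T_le_B h4)
        · have h4 := cj_mono k⁻¹ (X_le_normalizer_Z L)
          rw [hXr, cj_inv_cj] at h4
          exact h4
      have h5 := h3 hb
      rw [mem_cj, inv_inv] at h5
      exact mem_normalizer_iff_cj.1 h5
    have e : k * g * k⁻¹ = (k * n i * k⁻¹) * (k * b * k⁻¹) := by rw [hgb]; group
    rw [e, cj_mul, hb']
    refine L.cj_eq ((hk.mul (rp_simple cs R.nsys i)).mul hk.inv) hs ?_
    rw [hw, rep_mul_apply, rep_mul_apply, hv, rep_inv_apply, rep_simple_sr, map_neg]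

theorem oppData [Finite W] [Fact p.Prime] [Finite Y] [IsSimpleGroup Y] (hG : GG cs h T X = ⊤) {w : W} {s : Y}
    (hs : Rp cs R.nsys w s) (hw : rep cs h w r = -r)
    (hint : Opp.ElemMod Z (VJ cs h X (orth cs h r))) (hel : Opp.Elem Z) :
    Opp.OppData Z (VJ cs h X (orth cs h r)) s where
  ne := L.ne
  le_norm _ hq := VJ_le_norm L hq
  int := hint
  elem := hel
  norm _ hg := norm_VJ L hG hg
  gen := gen L hG hs hw
  r1 _ hx hx1 := r1 L hs hw hx hx1
  tr _ h1 h2 := tr L hs hw h1 h2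

end LongRoot

end Cfsg.Agent.H939.RgdA
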