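import Mathlib
import Cfsg.Agent.H939.RgdP
import Cfsg.Agent.H248.TitsRGD
import Cfsg.Agent.KFacts.RgdCharP

/-!
Subgroups of order prime to `p` of a simple group with a root group datum of characteristic `p` have a complement
(S5900).

* `exists_avoid` : some conjugate of `H ≠ 1` lies in no maximal parabolic subgroup over `B`;
* `sup_U_eq_top` : then `⟨H, U⟩ = G`;
* `hasC_of_coprime`.
-/

set_option autoImplicit false
set_option linter.unusedSectionVars false
set_option linter.dupNamespace false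

namespace Cfsg.Agent.H939.RgdU

open CoxeterSystem Cfsg.Agent.ChevalleyStructure.CoxeterGeom Cfsg.Agent.Tits.Roots Cfsg.Agent.Tits.Core
  Cfsg.Agent.Tits.RootComb Cfsg.Agent.Tits.Exchange Cfsg.Agent.Nodes.Reps Cfsg.Agent.Nodes.BNOf
  Cfsg.Agent.Nodes.StabComb Cfsg.Agent.Nodes.Bruhat Cfsg.Agent.Nodes.OppDec Cfsg.Agent.Nodes.LeviDec
  Cfsg.Agent.Nodes.NormX Cfsg.Agent.Nodes.Coroot Cfsg.Agent.KFacts.RgdSL Cfsg.Agent.Nodes.PosPair
  Cfsg.Agent.H939.RgdA Cfsg.Agent.H939.RgdP Cfsg.Agent.KFacts.RgdCharP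
open scoped commutatorElement

variable {I W Y : Type*} [Fintype I] [DecidableEq I] [Group W] [Group Y] {M : CoxeterMatrix I}
  {cs : CoxeterSystem M W} {A : I → I → ℤ} {h : IsCartan M A} {p : ℕ} {T : Subgroup Y} {n : I → Y}
  {X : (I → ℤ) → Subgroup Y}

theorem sj_not_mem (h : IsCartan M A) {j : I} : cs.simple j ∉ WJ cs ({j}ᶜ : Set I) := by
  intro h1
  have h2 := rep_apply_of_mem cs h h1 (sr j) (k := j) (by simp)
  rw [rep_simple_sr, Pi.neg_apply, sr_self] at h2
  omega

theorem sij_not_mem (h : IsCartan M A) {i j : I} (hij : i ≠ j) :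
    cs.simple i * cs.simple j ∉ WJ cs ({j}ᶜ : Set I) := by
  intro h1
  have h2 : cs.simple i ∈ WJ cs ({j}ᶜ : Set I) := simple_mem_WJ cs (by simpa using hij)
  apply sj_not_mem (cs := cs) h (j := j)
  have := mul_mem (inv_mem h2) h1
  rwa [inv_mul_cancel_left] at this

theorem mul_ne_zero_of_ne_two (h : IsCartan M A) {i j : I} (hij : i ≠ j) (hM : M i j ≠ 2) : A i j * A j i ≠ 0 := by
  rcases h.rel i j hij with h1 | h1 | ⟨-, h1 | h1⟩ | ⟨-, h1 | h1⟩
  · exact absurd h1.1 hM
  · rw [h1.2.1, h1.2.2]; norm_num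
  all_goals
    rw [h1.1, h1.2]; norm_num

theorem sjij_not_mem (h : IsCartan M A) {i j : I} (hij : i ≠ j) (hM : M i j ≠ 2) :
    cs.simple j * (cs.simple i * cs.simple j) ∉ WJ cs ({j}ᶜ : Set I) := by
  intro h1
  have h2 := rep_apply_of_mem cs h h1 (sr j) (k := j) (by simp)
  have e1 : rep cs h (cs.simple i) (sr j) = sr j - A i j • sr i := by
    rw [rep_simple_eq]
    congr 1
    have : pairing A i (sr j) = A i j := by
      have := pairing_single A i j 1
      rw [mul_one] at this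
      exact this
    rw [this]
  have e2 : rep cs h (cs.simple j) (sr i) = sr i - A j i • sr j := by
    rw [rep_simple_eq]
    congr 1
    have : pairing A j (sr i) = A j i := by
      have := pairing_single A j i 1
      rw [mul_one] at this
      exact this
    rw [this]
  rw [rep_mul_apply, rep_mul_apply, rep_simple_sr, map_neg, e1, map_neg, map_sub, map_smul, rep_simple_sr, e2,
    sr_self] at h2
  simp only [Pi.neg_apply, Pi.sub_apply, Pi.smul_apply, smul_eq_mul, sr_self, sr_ne (Ne.symm hij)] at h2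
  have h3 := mul_ne_zero_of_ne_two h hij hM
  apply h3
  linarith

theorem PJ_mono {J J' : Set I} (hJ : J ⊆ J') : PJ cs h T X J ≤ PJ cs h T X J' :=
  sup_le ((LJ_mono hJ).trans LJ_le_PJ) ((VJ_le_B J).trans B_le_PJ)

section Avoid

variable (R : RGD cs h p T n X)

include R

theorem n_not_mem [Finite W] {j : I} : n j ∉ PJ cs h T X ({j}ᶜ : Set I) := by
  intro h1
  exact sj_not_mem (cs := cs) h ((cell_mem_PJ_iff R (cell_of_rp (rp_simple cs R.nsys j))).1 h1)

/-- the `H`-invariant types -/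
def FF (cs : CoxeterSystem M W) (h : IsCartan M A) (T : Subgroup Y) (X : (I → ℤ) → Subgroup Y) (H : Subgroup Y)
    (g : Y) : Set I := {j | cj g H ≤ PJ cs h T X ({j}ᶜ : Set I)}

theorem FF_mul_of_ne {H : Subgroup Y} {g b : Y} {j k : I} (hb : b ∈ PJ cs h T X {j}) (hk : k ≠ j) :
    k ∈ FF cs h T X H (b * g) ↔ k ∈ FF cs h T X H g := by
  have h1 : b ∈ PJ cs h T X ({k}ᶜ : Set I) := PJ_mono (by simpa using hk) hb
  show cj (b * g) H ≤ _ ↔ cj g H ≤ _
  rw [cj_mul]
  constructor
  · intro h2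
    have h3 := cj_mono b⁻¹ h2
    rwa [cj_inv_cj, cj_eq_of_mem (inv_mem h1)] at h3
  · intro h2
    have h3 := cj_mono b h2
    rwa [cj_eq_of_mem h1] at h3

theorem FF_mul_of_min {H : Subgroup Y} {g b : Y} {j : I} (hb : b ∈ PJ cs h T X {j})
    (hmin : ∀ g', (FF cs h T X H g).ncard ≤ (FF cs h T X H g').ncard) (hj : j ∈ FF cs h T X H g) :
    FF cs h T X H (b * g) = FF cs h T X H g := by
  have hsub : FF cs h T X H (b * g) ⊆ FF cs h T X H g := by
    intro k hk
    by_cases hkj : k = j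
    · rw [hkj]; exact hj
    · exact (FF_mul_of_ne R hb hkj).1 hk
  exact Set.eq_of_subset_of_ncard_le hsub (hmin _) (Set.toFinite _)

/-- every `PJ J` is generated by the `PJ {j}` and `B` -/
theorem PJ_le_of [Finite W] {J : Set I} {K : Subgroup Y} (hB : RGD.B cs h T X ≤ K) (hn : ∀ j ∈ J, n j ∈ K) :
    PJ cs h T X J ≤ K := by
  have h1 := inf_eq_PJ R hB
  exact (PJ_mono (J' := {i | n i ∈ K}) hn).trans (h1 ▸ inf_le_left)

/-- **some conjugate of `H ≠ 1` lies in no maximal parabolic over `B`** -/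
theorem exists_avoid [Finite W] [IsSimpleGroup Y] [Nonempty I] (hG : GG cs h T X = ⊤) (hconn : Conn M)
    {H : Subgroup Y} (hH : H ≠ ⊥) : ∃ g : Y, ∀ j, ¬ cj g H ≤ PJ cs h T X ({j}ᶜ : Set I) := by
  obtain ⟨g, hmin⟩ : ∃ g, ∀ g', (FF cs h T X H g).ncard ≤ (FF cs h T X H g').ncard := by
    have h1 := WellFounded.min_mem (wellFounded_lt (α := ℕ)) (Set.range fun g => (FF cs h T X H g).ncard)
      (Set.range_nonempty _)
    obtain ⟨g, hg⟩ := h1
    refine ⟨g, fun g' => ?_⟩
    have h2 : (fun g => (FF cs h T X H g).ncard) g = _ := hg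
    have h2' : (FF cs h T X H g).ncard = _ := hg
    rw [h2']
    exact not_lt.1 (WellFounded.not_lt_min (wellFounded_lt (α := ℕ)) (s := Set.range fun g => (FF cs h T X H g).ncard)
      ⟨g', rfl⟩)
  set J := FF cs h T X H g with hJ
  by_cases hJe : J = ∅
  · refine ⟨g, fun j hj => ?_⟩
    have : j ∈ J := hj
    rw [hJe] at this
    exact this
  exfalso
  have hJne : J.Nonempty := Set.nonempty_iff_ne_empty.2 hJe
  -- all chambers of the residue
  have hres : ∀ b ∈ PJ cs h T X J, FF cs h T X H (b * g) = J := by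
    let S : Subgroup Y :=
      { carrier := {b | ∀ g', FF cs h T X H g' = J ↔ FF cs h T X H (b * g') = J}
        one_mem' := fun g' => by rw [one_mul]
        mul_mem' := fun {a b} ha hb g' => by rw [hb g', ha (b * g'), mul_assoc]
        inv_mem' := fun {a} ha g' => by rw [ha (a⁻¹ * g'), mul_inv_cancel_left] }
    have hS : ∀ j ∈ J, PJ cs h T X {j} ≤ S := by
      intro j hj
      have key : ∀ b ∈ PJ cs h T X {j}, ∀ g', FF cs h T X H g' = J → FF cs h T X H (b * g') = J := by
        intro b hb g' hg'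
        rw [← hg']
        refine FF_mul_of_min R hb (fun g'' => ?_) (by rw [hg']; exact hj)
        rw [hg']; exact hmin g''
      intro b hb g'
      refine ⟨key b hb g', fun h1 => ?_⟩
      have := key b⁻¹ (inv_mem hb) _ h1
      rwa [inv_mul_cancel_left] at this
    have hPS : PJ cs h T X J ≤ S := by
      obtain ⟨j, hj⟩ := hJne
      exact PJ_le_of R (B_le_PJ.trans (hS j hj)) fun j hj =>
        hS j hj (LJ_le_PJ (n_mem_LJ R (Set.mem_singleton j)))
    intro b hb
    exact (hPS hb g).1 rfl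
  set H₁ := cj g H with hH₁
  -- the largest subgroup normalised by `PJ J` in the parabolics
  let N : Subgroup Y :=
    { carrier := {x | ∀ b ∈ PJ cs h T X J, ∀ j ∈ J, b * x * b⁻¹ ∈ PJ cs h T X ({j}ᶜ : Set I)}
      one_mem' := fun b _ j _ => by rw [mul_one, mul_inv_cancel]; exact one_mem _
      mul_mem' := fun {x y} hx hy b hb j hj => by
        have e : b * (x * y) * b⁻¹ = (b * x * b⁻¹) * (b * y * b⁻¹) := by group
        rw [e]; exact mul_mem (hx b hb j hj) (hy b hb j hj)
      inv_mem' := fun {x} hx b hb j hj => by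
        have e : b * x⁻¹ * b⁻¹ = (b * x * b⁻¹)⁻¹ := by group
        rw [e]; exact inv_mem (hx b hb j hj) }
  have hHN : H₁ ≤ N := by
    intro x hx b hb j hj
    have h1 : j ∈ FF cs h T X H (b * g) := by rw [hres b hb]; exact hj
    have h2 : cj (b * g) H ≤ PJ cs h T X ({j}ᶜ : Set I) := h1
    apply h2
    rw [cj_mul]
    exact conj_mem_cj.2 hx
  have hNn : PJ cs h T X J ≤ Subgroup.normalizer (N : Set Y) := by
    have key : ∀ c ∈ PJ cs h T X J, ∀ x ∈ N, c * x * c⁻¹ ∈ N := by
      intro c hc x hx b hb j hj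
      have e : b * (c * x * c⁻¹) * b⁻¹ = (b * c) * x * (b * c)⁻¹ := by group
      rw [e]; exact hx (b * c) (mul_mem hb hc) j hj
    intro c hc
    rw [Subgroup.mem_normalizer_iff]
    intro x
    refine ⟨key c hc x, fun h1 => ?_⟩
    have h2 := key c⁻¹ (inv_mem hc) _ h1
    have e : c⁻¹ * (c * x * c⁻¹) * c⁻¹⁻¹ = x := by group
    rwa [e] at h2
  have hNle : ∀ j ∈ J, N ≤ PJ cs h T X ({j}ᶜ : Set I) := by
    intro j hj x hx
    have := hx 1 (one_mem _) j hj
    rwa [one_mul, inv_one, mul_one] at this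
  set P := N ⊔ RGD.B cs h T X with hP
  have hPJ : P = PJ cs h T X {i | n i ∈ P} := by
    have h1 := inf_eq_PJ R (P := P) le_sup_right
    rwa [hG, inf_top_eq] at h1
  have hPle : ∀ j ∈ J, P ≤ PJ cs h T X ({j}ᶜ : Set I) := fun j hj => sup_le (hNle j hj) B_le_PJ
  have hne : ∀ i, n i ∈ P → ∀ j ∈ J, i ≠ j := by
    rintro i hi j hj rfl
    exact n_not_mem R (hPle _ hj hi)
  have hcomm : ∀ i, n i ∈ P → ∀ j ∈ J, M i j = 2 := by
    intro i hi j hj
    by_contra hM
    have hij := hne i hi j hj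
    have h1 : n i ∈ ((N ⊔ RGD.B cs h T X : Subgroup Y) : Set Y) := hi
    rw [Subgroup.coe_mul_of_right_le_normalizer_left _ _ (B_le_PJ.trans hNn), Set.mem_mul] at h1
    obtain ⟨ν, hν, b, hb, e⟩ := h1
    have hνc : Cell R.nsys cs h X (cs.simple i) ν := by
      have e' : ν = n i * b⁻¹ := by rw [← e]; group
      rw [e']
      exact (cell_of_rp (rp_simple cs R.nsys i)).mul_right (inv_mem hb)
    have hnj : Cell R.nsys cs h X (cs.simple j) (n j) := cell_of_rp (rp_simple cs R.nsys j)
    have hy : n j * ν⁻¹ * (n j)⁻¹ ∈ N := by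
      have h2 : n j ∈ PJ cs h T X J := LJ_le_PJ (n_mem_LJ R hj)
      exact (Subgroup.mem_normalizer_iff.1 (hNn h2) _).1 (inv_mem hν)
    have h2 : Cell R.nsys cs h X (cs.simple j * cs.simple i) (n j * ν) := by
      rcases Cell.simple_mul R hnj hνc with h3 | ⟨h3, -⟩
      · exact h3
      · exfalso
        rw [cs.length_simple] at h3
        have h4 : cs.simple j * cs.simple i = 1 := cs.length_eq_zero_iff.1 (by omega)
        apply hij
        have h5 : cs.simple j = cs.simple i := by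
          have := eq_inv_of_mul_eq_one_left h4
          rwa [cs.inv_simple] at this
        have h6 := congrArg (fun w => rep cs h w (sr i) i) h5
        simp only [rep_simple_sr, Pi.neg_apply, sr_self] at h6
        rw [rep_simple_apply cs h j (sr i) i hij] at h6
        rw [sr_self] at h6
        omega
    have h3 := h2.inv
    rw [mul_inv_rev, mul_inv_rev, cs.inv_simple, cs.inv_simple] at h3
    have hyP := hNle j hj hy
    rw [mul_assoc] at hyP
    rcases Cell.simple_mul R hnj h3 with h4 | ⟨-, h4⟩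
    · exact sjij_not_mem h hij hM ((cell_mem_PJ_iff R h4).1 hyP)
    · exact sij_not_mem h hij ((cell_mem_PJ_iff R h4).1 hyP)
  have hcompl : ∀ k, n k ∉ P → k ∈ J := by
    intro k hk
    show cj g H ≤ _
    have hPk : P ≤ PJ cs h T X ({k}ᶜ : Set I) := hPJ.le.trans (PJ_mono fun i hi => ?_)
    · exact hHN.trans ((le_sup_left : N ≤ P).trans hPk)
    · rw [Set.mem_compl_iff, Set.mem_singleton_iff]
      rintro rfl
      exact hk hi
  have hJuniv : J = Set.univ := by
    by_contra hJu
    obtain ⟨a, ha, b, hb, hab⟩ := hconn J hJne hJu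
    have hbP : n b ∈ P := by
      by_contra h1
      exact hb (hcompl b h1)
    apply hab
    rw [M.symmetric]
    exact hcomm b hbP a ha
  have hNnorm : N.Normal := by
    rw [← Subgroup.normalizer_eq_top_iff, eq_top_iff]
    refine le_trans ?_ hNn
    rw [hJuniv, ← hG, ← LJ_univ]
    exact LJ_le_PJ
  rcases hNnorm.eq_bot_or_eq_top with h1 | h1
  · apply hH
    have h2 : H₁ ≤ ⊥ := h1 ▸ hHN
    rw [eq_bot_iff]
    have h3 := cj_mono g⁻¹ h2
    rw [hH₁, cj_inv_cj] at h3
    refine h3.trans ?_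
    intro x hx
    rw [mem_cj, Subgroup.mem_bot] at hx
    rw [Subgroup.mem_bot]
    have : x = g⁻¹ * (g⁻¹⁻¹ * x * g⁻¹) * g := by group
    rw [this, hx]; group
  · obtain ⟨j, hj⟩ := hJne
    apply n_not_mem R (j := j)
    apply hNle j hj
    rw [h1]; trivial

/-- **subgroups of order prime to `p` have complements** -/
theorem hasC_of_coprime [Finite W] [IsSimpleGroup Y] [Finite Y] [Nonempty I] [Fact p.Prime]
    (hX : RGD.Sup X {x | IsRoot cs h x} = ⊤) (hconn : Conn M) {H : Subgroup Y}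
    (hp : (Nat.card H).Coprime p) : KLat.HasC H := by
  have hG : GG cs h T X = ⊤ := by
    rw [eq_top_iff, ← hX]; exact le_sup_right
  by_cases hH : H = ⊥
  · rw [hH]; exact KLat.hasC_bot
  obtain ⟨g, hg⟩ := exists_avoid R hG hconn hH
  refine KLat.hasC_of_cj (g := g) ⟨RGD.Sup X (RGD.Pos cs h), ?_, ?_⟩
  · set P := cj g H ⊔ RGD.Sup X (RGD.Pos cs h) with hP
    have hUP : RGD.Sup X (RGD.Pos cs h) ≤ P := le_sup_right
    have h1 := H248.TitsRGD.le_PJ R hUP (by rw [hG]; exact le_top)
    have h2 : H248.TitsRGD.JU T n P = Set.univ := by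
      by_contra h3
      obtain ⟨i, hi⟩ := (Set.ne_univ_iff_exists_notMem _).1 h3
      refine hg i ((le_sup_left : cj g H ≤ P).trans (h1.trans (PJ_mono fun k hk => ?_)))
      rw [Set.mem_compl_iff, Set.mem_singleton_iff]
      rintro rfl
      exact hi hk
    have h3 := H248.TitsRGD.Sup_le_of_univ R hUP h2
    rw [hX] at h3
    exact top_le_iff.1 h3
  · have h1 : IsPGroup p ↥(RGD.Sup X (RGD.Pos cs h)) := R.isPGroup_Upos
    refine disjoint_iff.1 (Subgroup.disjoint_of_coprime_natCard ?_)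
    obtain ⟨k, hk⟩ := IsPGroup.iff_card.1 h1
    rw [hk]
    refine Nat.Coprime.pow_right k ?_
    have : Nat.card (cj g H) = Nat.card H := Nat.card_congr (H.equivMapOfInjective _ (MulAut.conj g).injective).symm.toEquiv
    show (Nat.card (cj g H)).Coprime p
    rw [this]; exact hp

end Avoid

end Cfsg.Agent.H939.RgdU
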