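import Mathlib
import Cfsg.Agent.H939.RgdU

/-!
The main theorem on complements for groups with a root group datum (S5900).

* `cl_of_long` : `L : Long R r Z`, `V/Z` and `Z` elementary abelian, every `1 ≠ u ∈ U` moves some conjugate of `Z` to an
  opposite one: the subgroup lattice is complemented;
* `cl_of_sl` : simply laced diagrams of rank `≥ 2`.
-/

set_option autoImplicit false
set_option linter.unusedSectionVars false
set_option linter.dupNamespace false

namespace Cfsg.Agent.H939.RgdMain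

open CoxeterSystem Cfsg.Agent.ChevalleyStructure.CoxeterGeom Cfsg.Agent.Tits.Roots Cfsg.Agent.Tits.Core
  Cfsg.Agent.Tits.RootComb Cfsg.Agent.Tits.Exchange Cfsg.Agent.Nodes.Reps Cfsg.Agent.Nodes.BNOf
  Cfsg.Agent.Nodes.StabComb Cfsg.Agent.Nodes.Bruhat Cfsg.Agent.Nodes.OppDec Cfsg.Agent.Nodes.LeviDec
  Cfsg.Agent.Nodes.NormX Cfsg.Agent.Nodes.Coroot Cfsg.Agent.KFacts.RgdSL Cfsg.Agent.Nodes.PosPair
  Cfsg.Agent.H939.RgdA Cfsg.Agent.H939.RgdP Cfsg.Agent.H939.RgdU Cfsg.Agent.KFacts.RgdCharP Cfsg.Agent.Nodes.Comb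
open scoped commutatorElement

variable {I W Y : Type*} [Fintype I] [DecidableEq I] [Group W] [Group Y] {M : CoxeterMatrix I}
  {cs : CoxeterSystem M W} {A : I → I → ℤ} {h : IsCartan M A} {p : ℕ} {T : Subgroup Y} {n : I → Y}
  {X : (I → ℤ) → Subgroup Y}

/-- elements of order a power of `p` are conjugate into `U` -/
theorem exists_conj_mem_U (R : RGD cs h p T n X) [Finite W] [Finite Y] [Fact p.Prime] (hG : GG cs h T X = ⊤)
    {u : Y} {k : ℕ} (hu : u ^ p ^ k = 1) : ∃ g : Y, g * u * g⁻¹ ∈ RGD.Sup X (RGD.Pos cs h) := by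
  have hU : IsPGroup p ↥(RGD.Sup X (RGD.Pos cs h)) := R.isPGroup_Upos
  have hndvd : ¬ p ∣ (RGD.Sup X (RGD.Pos cs h)).index := by
    have := KFacts.RgdSyl.not_dvd_relIndex R
    rwa [hG, Subgroup.relIndex_top_right] at this
  let P : Sylow p Y := hU.toSylow hndvd
  have hz : IsPGroup p (Subgroup.zpowers u) := by
    have h1 : IsPGroup p ↥(Subgroup.zpowers u) := by
      rw [IsPGroup.iff_card]
      rw [Nat.card_zpowers]
      exact (Nat.dvd_prime_pow Fact.out).1 (orderOf_dvd_of_pow_eq_one hu) |>.imp fun _ h => h.2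
    exact h1
  obtain ⟨Q, hQ⟩ := hz.exists_le_sylow
  obtain ⟨g, hg⟩ := MulAction.exists_smul_eq Y Q P
  refine ⟨g, ?_⟩
  have h1 : u ∈ (Q : Subgroup Y) := hQ (Subgroup.mem_zpowers u)
  have h2 : g * u * g⁻¹ ∈ ((g • Q : Sylow p Y) : Subgroup Y) := by
    rw [Sylow.coe_subgroup_smul]
    exact Subgroup.smul_mem_pointwise_smul u (MulAut.conj g) _ h1
  rw [hg] at h2
  exact h2

section Main

variable {R : RGD cs h p T n X} {r : I → ℤ} {Z : Subgroup Y} (L : Long R r Z)

include L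

/-- **The main theorem.** -/
theorem cl_of_long [Finite W] [Finite Y] [IsSimpleGroup Y] [Nonempty I] [Fact p.Prime]
    (hX : RGD.Sup X {x | IsRoot cs h x} = ⊤) (hconn : Conn M)
    (hint : Opp.ElemMod Z (VJ cs h X (orth cs h r))) (hel : Opp.Elem Z)
    (hPP : ∀ {w : W} {s : Y}, Rp cs R.nsys w s → rep cs h w r = -r →
      ∀ u ∈ RGD.Sup X (RGD.Pos cs h), u ≠ 1 → ∃ g k : Y, Opp.Opp Z s (cj g Z) (cj (k * u * k⁻¹ * g) Z)) :
    KLat.CL Y := by
  have hG : GG cs h T X = ⊤ := by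
    rw [eq_top_iff, ← hX]; exact le_sup_right
  obtain ⟨w, hw⟩ := exists_neg (cs := cs) (h := h) L.root
  obtain ⟨s, hs⟩ := exists_rp cs R.nsys w
  have hss : KLat.cj s (KLat.cj s Z) = Z := by
    rw [← KLat.cj_mul]
    refine L.stab _ _ (hs.mul hs) ?_
    rw [rep_mul_apply, hw, map_neg, hw, neg_neg]
  have D := oppData L hG hs hw hint hel
  rw [KLat.cl_iff]
  intro H
  by_cases hp : p ∣ Nat.card H
  · obtain ⟨x, hx⟩ := exists_prime_orderOf_dvd_card' p hp
    have hx1 : (x : Y) ≠ 1 := by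
      intro h1
      have h2 : x = 1 := Subtype.ext h1
      rw [h2, orderOf_one] at hx
      exact (Fact.out : p.Prime).one_lt.ne hx
    have hxp : (x : Y) ^ p ^ 1 = 1 := by
      rw [pow_one, ← hx]
      exact congrArg Subtype.val (pow_orderOf_eq_one x)
    obtain ⟨g, hg⟩ := exists_conj_mem_U R hG hxp
    have hne : g * (x : Y) * g⁻¹ ≠ 1 := by
      intro h1
      apply hx1
      have : (x : Y) = g⁻¹ * (g * x * g⁻¹) * g := by group
      rw [this, h1]; group
    obtain ⟨g', k, ho⟩ := hPP hs hw _ hg hne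
    have ho' := Opp.Opp.conj ho (k * g)⁻¹
    refine Opp.hasC D hss (H := H) (g := (k * g)⁻¹ * g') x.2 ?_
    have e1 : KLat.cj (k * g)⁻¹ (cj g' Z) = KLat.cj ((k * g)⁻¹ * g') Z := (KLat.cj_mul _ _ _).symm
    have e2 : KLat.cj (k * g)⁻¹ (cj (k * (g * (x : Y) * g⁻¹) * k⁻¹ * g') Z) =
        KLat.cj (x : Y) (KLat.cj ((k * g)⁻¹ * g') Z) := by
      rw [← KLat.cj_mul]
      refine (KLat.cj_mul _ _ _).symm.trans ?_
      congr 1
      group
    rw [e1, e2] at ho'
    exact ho'
  · exact hasC_of_coprime R hX hconn ((Nat.Prime.coprime_iff_not_dvd Fact.out).2 hp).symm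

end Main

/-! ### generalities on orbits -/

theorem rep_adj (h : IsCartan M A) {i j : I} (hM : M i j = 3) :
    rep cs h (cs.simple i * cs.simple j) (sr i) = sr j := by
  have hij : i ≠ j := by
    rintro rfl
    rw [M.diagonal] at hM; omega
  have hA : A i j = -1 ∧ A j i = -1 := by
    rcases h.rel i j hij with h1 | h1 | h1 | h1
    · omega
    · exact h1.2
    · omega
    · omega
  have e1 : rep cs h (cs.simple j) (sr i) = sr i + sr j := by
    rw [rep_simple_eq]
    have : pairing A j (sr i) = A j i := by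
      have := pairing_single A j i 1
      rw [mul_one] at this
      exact this
    rw [this, hA.2, neg_one_smul, sub_neg_eq_add]
  have e2 : rep cs h (cs.simple i) (sr j) = sr j + sr i := by
    rw [rep_simple_eq]
    have : pairing A i (sr j) = A i j := by
      have := pairing_single A i j 1
      rw [mul_one] at this
      exact this
    rw [this, hA.1, neg_one_smul, sub_neg_eq_add]
  rw [rep_mul_apply, e1, map_add, rep_simple_sr, e2]
  abel

/-- in a connected simply laced diagram all simple roots are conjugate to `r` -/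
theorem orbit_univ (h : IsCartan M A) (h4 : ∀ i j, M i j ≠ 4) (h6 : ∀ i j, M i j ≠ 6) (hconn : Conn M)
    {r : I → ℤ} {i₀ : I} {w₀ : W} (h0 : rep cs h w₀ r = sr i₀) (i : I) : ∃ v : W, rep cs h v r = sr i := by
  by_contra hcon
  set J : Set I := {i | ∃ v : W, rep cs h v r = sr i} with hJ
  obtain ⟨a, ⟨v, hv⟩, b, hb, hab⟩ := hconn J ⟨i₀, w₀, h0⟩ (fun h1 => hcon (by
    have h2 : i ∈ J := by rw [h1]; trivial
    exact h2))
  have hne : a ≠ b := by
    rintro rfl
    exact hb ⟨v, hv⟩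
  have hM : M a b = 3 := by
    rcases h.rel a b hne with h1 | h1 | h1 | h1
    · exact absurd h1.1 hab
    · exact h1.1
    · exact absurd h1.1 (h4 _ _)
    · exact absurd h1.1 (h6 _ _)
  apply hb
  refine ⟨cs.simple a * cs.simple b * v, ?_⟩
  rw [rep_mul_apply, hv, rep_adj h hM]

/-! ### simply laced diagrams -/

theorem sl_A2 [Finite W] (hs : SL cs h) {i j : I} (hM : M i j = 3) :
    A2 cs h (sr i + sr j) (-sr j) := by
  have hij : i ≠ j := by
    rintro rfl
    rw [M.diagonal] at hM; omega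
  have hA : A i j = -1 ∧ A j i = -1 := by
    rcases h.rel i j hij with h1 | h1 | h1 | h1
    · omega
    · exact h1.2
    · omega
    · omega
  have hi := isRoot_sr cs h i
  have hj := isRoot_sr cs h j
  have hc : cpr cs h (sr i) (sr j) = -1 := by
    rw [cpr_sr]
    have := pairing_single A j i 1
    rw [mul_one] at this
    exact this.trans hA.2
  have hr : IsRoot cs h (sr i + sr j) := isRoot_add hi hj hc
  refine hs.a2 hr hj.neg ?_
  rw [cpr_neg_right cs h _ hj, cpr_add cs h _ _ hj, hc, cpr_self cs h hj]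
  norm_num

/-- root groups of simply laced diagrams of rank `≥ 2` are elementary abelian -/
theorem sl_comm [Finite W] (R : RGD cs h p T n X) (hs : SL cs h) {i j : I} (hM : M i j = 3) {u v : Y}
    (hu : u ∈ X (sr i)) (hv : v ∈ X (sr i)) : u * v = v * u := by
  have hA := sl_A2 hs hM
  have e : sr i + sr j + -sr j = (sr i : I → ℤ) := by abel
  exact hA.comm_self R (by rw [e]; exact hu) (by rw [e]; exact hv)

theorem sl_pow [Finite W] [Fact p.Prime] (R : RGD cs h p T n X) (hs : SL cs h) {i j : I} (hM : M i j = 3) {u : Y}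
    (hu : u ∈ X (sr i)) : u ^ p = 1 := by
  by_cases hu1 : u = 1
  · rw [hu1, one_pow]
  have hA := (sl_A2 hs (i := j) (j := i) (by rw [M.symmetric]; exact hM)).symm
  -- an element of order `p`
  obtain ⟨v, hv, hv1, hvp⟩ : ∃ v ∈ X (-sr i), v ≠ 1 ∧ v ^ p = 1 := by
    obtain ⟨⟨a, ha⟩, ha1⟩ := Subgroup.ne_bot_iff_exists_ne_one.1 (X_ne_bot R (isRoot_sr cs h i).neg)
    have ha1' : a ≠ 1 := fun h1 => ha1 (Subtype.ext h1)
    have hord : ∃ k, a ^ p ^ k = 1 := by
      obtain ⟨k, hk⟩ := (R.pgrp' (isRoot_sr cs h i).neg) ⟨a, ha⟩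
      exact ⟨k, congrArg Subtype.val hk⟩
    classical
    have hk := Nat.find_spec hord
    set k := Nat.find hord with hkdef
    have hk0 : k ≠ 0 := by
      intro h0
      rw [h0, pow_zero, pow_one] at hk
      exact ha1' hk
    obtain ⟨k', hk'⟩ := Nat.exists_eq_succ_of_ne_zero hk0
    refine ⟨a ^ p ^ k', pow_mem ha _, ?_, ?_⟩
    · exact Nat.find_min hord (m := k') (by omega)
    · rw [← pow_mul, ← pow_succ]
      rw [hk'] at hk
      exact hk
  -- transfer to `X (-sr i)`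
  have hn := rp_simple cs R.nsys i
  have hu2 : n i * u * (n i)⁻¹ ∈ X (-sr i) := by
    have := R.conj_mem hn (isRoot_sr cs h i) hu
    rwa [rep_simple_sr] at this
  have hu3 : n i * u * (n i)⁻¹ ≠ 1 := fun h4 => hu1 (by
    have : u = (n i)⁻¹ * (n i * u * (n i)⁻¹) * n i := by group
    rw [this, h4]; group)
  obtain ⟨t, -, ht⟩ := hA.symm.tor_trans R hv hv1 hu2 hu3
  have h5 : (n i * u * (n i)⁻¹) ^ p = 1 := by
    rw [← ht, conj_pow, hvp]; group
  rw [conj_pow] at h5
  have : u ^ p = (n i)⁻¹ * (n i * u ^ p * (n i)⁻¹) * n i := by group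
  rw [this, h5]; group

theorem X_conj [Finite W] (R : RGD cs h p T n X) (h4 : ∀ i j, M i j ≠ 4) (h6 : ∀ i j, M i j ≠ 6)
    (hconn : Conn M) (i : I) {x : I → ℤ} (hx : IsRoot cs h x) : ∃ g : Y, X x = cj g (X (sr i)) := by
  obtain ⟨w, k, rfl⟩ := hx
  obtain ⟨v, hv⟩ := orbit_univ (cs := cs) h h4 h6 hconn (r := sr i) (i₀ := i) (w₀ := 1)
    (by rw [map_one, Module.End.one_apply]) k
  obtain ⟨g, hg⟩ := exists_rp cs R.nsys (w * v)
  refine ⟨g, ?_⟩
  rw [R.conj_rp hg (isRoot_sr cs h i), rep_mul_apply, hv]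

theorem comm_of_cj {K : Subgroup Y} {g : Y} (hK : ∀ u ∈ K, ∀ v ∈ K, u * v = v * u) :
    ∀ u ∈ cj g K, ∀ v ∈ cj g K, u * v = v * u := by
  intro u hu v hv
  rw [mem_cj] at hu hv
  have h1 := hK _ hu _ hv
  have e1 : u * v = g * ((g⁻¹ * u * g) * (g⁻¹ * v * g)) * g⁻¹ := by group
  have e2 : v * u = g * ((g⁻¹ * v * g) * (g⁻¹ * u * g)) * g⁻¹ := by group
  rw [e1, e2, h1]

theorem pow_of_cj {K : Subgroup Y} {g : Y} {m : ℕ} (hK : ∀ u ∈ K, u ^ m = 1) : ∀ u ∈ cj g K, u ^ m = 1 := by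
  intro u hu
  rw [mem_cj] at hu
  have h1 := hK _ hu
  have e1 : u = g * (g⁻¹ * u * g) * g⁻¹ := by group
  rw [e1, conj_pow, h1]; group

/-- **simply laced diagrams of rank `≥ 2`** -/
theorem cl_of_sl [Finite W] [Finite Y] [IsSimpleGroup Y] [Fact p.Prime] (R : RGD cs h p T n X)
    (hs : SL cs h) (h4 : ∀ i j, M i j ≠ 4) (h6 : ∀ i j, M i j ≠ 6)
    (hX : RGD.Sup X {x | IsRoot cs h x} = ⊤) (hconn : Conn M) {i j : I} (hM : M i j = 3) : KLat.CL Y := by
  have : Nonempty I := ⟨i⟩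
  have := Fintype.ofFinite W
  have hG : GG cs h T X = ⊤ := by
    rw [eq_top_iff, ← hX]; exact le_sup_right
  have hij : i ≠ j := by
    rintro rfl
    rw [M.diagonal] at hM; omega
  obtain ⟨w₀, hd⟩ := exists_dom_rep cs h (sr i)
  set r := rep cs h w₀ (sr i) with hr
  have hrr : IsRoot cs h r := (isRoot_sr cs h i).act w₀
  have hcomm : ∀ x, IsRoot cs h x → ∀ u ∈ X x, ∀ v ∈ X x, u * v = v * u := by
    intro x hx
    obtain ⟨g, hg⟩ := X_conj R h4 h6 hconn i hx
    rw [hg]
    exact comm_of_cj fun u hu v hv => sl_comm R hs hM hu hv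
  have hpow : ∀ x, IsRoot cs h x → ∀ u ∈ X x, u ^ p = 1 := by
    intro x hx
    obtain ⟨g, hg⟩ := X_conj R h4 h6 hconn i hx
    rw [hg]
    exact pow_of_cj fun u hu => sl_pow R hs hM hu
  have hcij : cpr cs h (sr i) (sr j) = -1 := by
    have hA : A i j = -1 ∧ A j i = -1 := by
      rcases h.rel i j hij with h1 | h1 | h1 | h1
      · omega
      · exact h1.2
      · omega
      · omega
    rw [cpr_sr]
    have := pairing_single A j i 1
    rw [mul_one] at this
    exact this.trans hA.2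
  have hij' : IsRoot cs h (sr i + sr j) := isRoot_add (isRoot_sr cs h i) (isRoot_sr cs h j) hcij
  have hLR : KFacts.RgdTI.LR R r := by
    refine KFacts.RgdTI.LR.of_SL R hs hrr (hij'.act w₀) ?_
    rw [hr, cpr_rep cs h w₀ _ hij', hs _ _ (isRoot_sr cs h i) hij',
      cpr_add cs h _ _ (isRoot_sr cs h i), cpr_self cs h (isRoot_sr cs h i),
      hs _ _ (isRoot_sr cs h j) (isRoot_sr cs h i), hcij]
    norm_num
  have hBr : RGD.B cs h T X ≤ Subgroup.normalizer (X r : Set Y) := by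
    refine le_trans ?_ hLR.PS_le_normalizer
    refine sup_le KFacts.RgdPar.T_le_PS (RGD.Sup_le fun x hx => KFacts.RgdPar.X_le_PS ⟨hx.1, ?_⟩)
    have h1 := form_nonneg_of_dom cs h hd hx.2
    by_contra h2
    have h3 := two_form_cpr cs h x hrr
    have h4 := form_pos cs h hrr.ne_zero
    have h5 := mul_neg_of_neg_of_pos (not_le.1 h2) h4
    rw [← h3, form_comm cs h] at h5
    linarith
  have L : Long R r (X r) := long_X R hrr hd hBr
  refine cl_of_long L hX hconn ?_ (Opp.elem_of (p := p) (hcomm r hrr) (hpow r hrr)) ?_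
  · -- `V / X r` elementary abelian
    refine Opp.elemMod_of_gen (p := p) (S := {u | ∃ x ∈ NotJ cs h (orth cs h r), u ∈ X x}) ?_ (Z_le_VJ L) ?_ ?_ ?_
    · apply le_antisymm
      · refine RGD.Sup_le fun x hx u hu => Subgroup.subset_closure ⟨x, hx, hu⟩
      · rw [Subgroup.closure_le]
        rintro u ⟨x, hx, hu⟩
        exact RGD.le_Sup (S := NotJ cs h (orth cs h r)) hx hu
    · rintro u ⟨x, hx, hu⟩
      exact hBr (VJ_le_B _ (RGD.le_Sup (S := NotJ cs h (orth cs h r)) hx hu))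
    · rintro u ⟨x, hx, hu⟩ v ⟨y, hy, hv⟩
      by_cases hxy : x = y
      · subst hxy
        have := hcomm x hx.1 u hu v hv
        rw [this]
        have e : v * u * u⁻¹ * v⁻¹ = 1 := by group
        rw [e]; exact one_mem _
      have hxy' : x ≠ -y := by
        rintro rfl
        exact hy.1.not_pos_neg hy.2.1 (neg_nonneg.1 hx.2.1)
      have h1 := R.comm x y hx.1 hy.1 hxy hxy' u hu v hv
      rw [commutatorElement_def] at h1
      refine (btw_le_of fun z hz => ?_) h1
      obtain ⟨-, rfl⟩ := hs.btwn hx.1 hy.1 hxy hxy' hz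
      refine hs.eq_of_cpr hz.1 hrr ?_
      have h2 := (cpr_pos_iff (cs := cs) (h := h) x hrr).2 (by
        rw [form_comm cs h]; exact form_pos_of_NotJ hd hx)
      have h3 := (cpr_pos_iff (cs := cs) (h := h) y hrr).2 (by
        rw [form_comm cs h]; exact form_pos_of_NotJ hd hy)
      rw [cpr_add cs h _ _ hrr]
      omega
    · rintro u ⟨x, hx, hu⟩
      rw [hpow x hx.1 u hu]; exact one_mem _
  · -- opposition
    intro w s hws hw u hu hu1
    obtain ⟨k, hk⟩ := exists_not_sub R hG hu hu1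
    rw [Set.not_subset] at hk
    obtain ⟨u', ⟨hu'U, g, rfl⟩, hu'⟩ := hk
    obtain ⟨v, hv⟩ := orbit_univ (cs := cs) h h4 h6 hconn (r := r) (i₀ := i) (w₀ := w₀⁻¹)
      (by rw [hr, rep_inv_apply]) k
    obtain ⟨g', hg'⟩ := opp_of_not_mem_VJ L hG hws hw hv hu'U hu'
    exact ⟨g', g, hg'⟩

end Cfsg.Agent.H939.RgdMain
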