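import Mathlib
import Cfsg.Agent.H939.RgdMain

/-!
Classes of root subgroups and opposition, arbitrary diagrams (S5900).

* `Cls R r Z` : a class ready for use; `Mv R r Z u` : `u` moves some member to an opposite one;
* `cl_of_cls` : every `1 ≠ u ∈ U` has a conjugate which moves a member of some class ⟹ `CL Y`;
* `cl_of_all` : every simple root is conjugate to the root of a class ⟹ `CL Y`;
* `Good R r Z i`, `good_of_class`, `good_of_three` (bond `3`), `cl_of_good`.
-/

set_option autoImplicit false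
set_option linter.unusedSectionVars false
set_option linter.dupNamespace false

namespace Cfsg.Agent.H939.RgdTwo

open CoxeterSystem Cfsg.Agent.ChevalleyStructure.CoxeterGeom Cfsg.Agent.Tits.Roots Cfsg.Agent.Tits.Core
  Cfsg.Agent.Tits.RootComb Cfsg.Agent.Tits.Exchange Cfsg.Agent.Nodes.Reps Cfsg.Agent.Nodes.BNOf
  Cfsg.Agent.Nodes.StabComb Cfsg.Agent.Nodes.Bruhat Cfsg.Agent.Nodes.OppDec Cfsg.Agent.Nodes.LeviDec
  Cfsg.Agent.Nodes.NormX Cfsg.Agent.Nodes.Coroot Cfsg.Agent.KFacts.RgdSL Cfsg.Agent.Nodes.PosPair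
  Cfsg.Agent.H939.RgdA Cfsg.Agent.H939.RgdP Cfsg.Agent.H939.RgdU Cfsg.Agent.H939.RgdMain
  Cfsg.Agent.KFacts.RgdCharP Cfsg.Agent.Nodes.Comb
open scoped commutatorElement

variable {I W Y : Type*} [Fintype I] [DecidableEq I] [Group W] [Group Y] {M : CoxeterMatrix I}
  {cs : CoxeterSystem M W} {A : I → I → ℤ} {h : IsCartan M A} {p : ℕ} {T : Subgroup Y} {n : I → Y}
  {X : (I → ℤ) → Subgroup Y}

/-- a class of root subgroups ready for use -/
structure Cls (R : RGD cs h p T n X) (r : I → ℤ) (Z : Subgroup Y) : Prop where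
  long : Long R r Z
  int : Opp.ElemMod Z (VJ cs h X (orth cs h r))
  elem : Opp.Elem Z

/-- `u` moves some member of the class of `Z` to an opposite one -/
def Mv (R : RGD cs h p T n X) (r : I → ℤ) (Z : Subgroup Y) (u : Y) : Prop :=
  ∃ (w : W) (s : Y), Rp cs R.nsys w s ∧ rep cs h w r = -r ∧ ∃ g : Y, Opp.Opp Z s (cj g Z) (cj (u * g) Z)

theorem Mv.conj {R : RGD cs h p T n X} {r : I → ℤ} {Z : Subgroup Y} {u : Y} (hu : Mv R r Z u) (k : Y) :
    Mv R r Z (k * u * k⁻¹) := by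
  obtain ⟨w, s, hs, hw, g, ho⟩ := hu
  refine ⟨w, s, hs, hw, k * g, ?_⟩
  have := Opp.Opp.conj ho k
  have e1 : KLat.cj k (cj g Z) = cj (k * g) Z := (cj_mul k g Z).symm
  have e2 : KLat.cj k (cj (u * g) Z) = cj (k * u * k⁻¹ * (k * g)) Z := by
    have e3 : k * u * k⁻¹ * (k * g) = k * (u * g) := by group
    rw [e3]; exact (cj_mul k (u * g) Z).symm
  rw [e1, e2] at this
  exact this

theorem hasC_of_mv [Finite W] [Finite Y] [IsSimpleGroup Y] [Fact p.Prime] {R : RGD cs h p T n X} {r : I → ℤ}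
    {Z : Subgroup Y} (C : Cls R r Z) (hG : GG cs h T X = ⊤) {H : Subgroup Y} {u : Y} (hu : u ∈ H)
    (hm : Mv R r Z u) : KLat.HasC H := by
  obtain ⟨w, s, hs, hw, g, ho⟩ := hm
  have hss : KLat.cj s (KLat.cj s Z) = Z := by
    rw [← KLat.cj_mul]
    refine C.long.stab _ _ (hs.mul hs) ?_
    rw [rep_mul_apply, hw, map_neg, hw, neg_neg]
  have D := oppData C.long hG hs hw C.int C.elem
  refine Opp.hasC D hss (H := H) (g := g) hu ?_
  have e : cj (u * g) Z = KLat.cj u (KLat.cj g Z) := KLat.cj_mul _ _ _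
  rw [e] at ho
  exact ho

/-- **The main theorem, several classes.** -/
theorem cl_of_cls [Finite W] [Finite Y] [IsSimpleGroup Y] [Nonempty I] [Fact p.Prime] (R : RGD cs h p T n X)
    (hX : RGD.Sup X {x | IsRoot cs h x} = ⊤) (hconn : Conn M)
    (hPP : ∀ u ∈ RGD.Sup X (RGD.Pos cs h), u ≠ 1 → ∃ (r : I → ℤ) (Z : Subgroup Y), Cls R r Z ∧ ∃ k : Y,
      Mv R r Z (k * u * k⁻¹)) :
    KLat.CL Y := by
  have hG : GG cs h T X = ⊤ := by
    rw [eq_top_iff, ← hX]; exact le_sup_right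
  rw [KLat.cl_iff]
  intro H
  by_cases hp : p ∣ Nat.card H
  · obtain ⟨x, hx⟩ := exists_prime_orderOf_dvd_card' p hp
    have hx1 : (x : Y) ≠ 1 := by
      intro h1
      have h2 : x = 1 := Subtype.ext h1
      rw [h2, orderOf_one] at hx
      exact (Fact.out : p.Prime).one_lt.ne hx
    have hxp : (x : Y) ^ p ^ 1 = 1 := by
      rw [pow_one, ← hx]
      exact congrArg Subtype.val (pow_orderOf_eq_one x)
    obtain ⟨g, hg⟩ := exists_conj_mem_U R hG hxp
    have hne : g * (x : Y) * g⁻¹ ≠ 1 := by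
      intro h1
      apply hx1
      have : (x : Y) = g⁻¹ * (g * x * g⁻¹) * g := by group
      rw [this, h1]; group
    obtain ⟨r, Z, C, k, hm⟩ := hPP _ hg hne
    refine hasC_of_mv C hG x.2 ?_
    have := hm.conj (k * g)⁻¹
    have e : (k * g)⁻¹ * (k * (g * (x : Y) * g⁻¹) * k⁻¹) * (k * g)⁻¹⁻¹ = x := by group
    rwa [e] at this
  · exact hasC_of_coprime R hX hconn ((Nat.Prime.coprime_iff_not_dvd Fact.out).2 hp).symm

theorem mv_of_not_mem_VJ [Finite W] [Finite Y] [Fact p.Prime] {R : RGD cs h p T n X} {r : I → ℤ}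
    {Z : Subgroup Y} (L : Long R r Z) (hG : GG cs h T X = ⊤) {i : I} {v : W} (hv : rep cs h v r = sr i) {u : Y}
    (hu : u ∈ RGD.Sup X (RGD.Pos cs h)) (hui : u ∉ VJ cs h X {i}) : Mv R r Z u := by
  obtain ⟨w, hw⟩ := exists_neg (cs := cs) (h := h) L.root
  obtain ⟨s, hs⟩ := exists_rp cs R.nsys w
  obtain ⟨g, hg⟩ := opp_of_not_mem_VJ L hG hs hw hv hu hui
  exact ⟨w, s, hs, hw, g, hg⟩

/-- **all simple roots are covered by classes** -/
theorem cl_of_all [Finite W] [Finite Y] [IsSimpleGroup Y] [Nonempty I] [Fact p.Prime] (R : RGD cs h p T n X)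
    (hX : RGD.Sup X {x | IsRoot cs h x} = ⊤) (hconn : Conn M)
    (hall : ∀ i, ∃ (r : I → ℤ) (Z : Subgroup Y) (v : W), Cls R r Z ∧ rep cs h v r = sr i) :
    KLat.CL Y := by
  have hG : GG cs h T X = ⊤ := by
    rw [eq_top_iff, ← hX]; exact le_sup_right
  refine cl_of_cls R hX hconn fun u hu hu1 => ?_
  obtain ⟨i, hi⟩ := exists_not_sub R hG hu hu1
  rw [Set.not_subset] at hi
  obtain ⟨u', ⟨hu'U, g, rfl⟩, hu'⟩ := hi
  obtain ⟨r, Z, v, C, hv⟩ := hall i
  exact ⟨r, Z, C, g, mv_of_not_mem_VJ C.long hG hv hu'U hu'⟩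

/-- if no conjugate of `u` moves a member, then all conjugates of `u` in `U` lie in `V_i` -/
def Good (R : RGD cs h p T n X) (r : I → ℤ) (Z : Subgroup Y) (i : I) : Prop :=
  ∀ u : Y, (∀ x ∈ DD cs h X u, ¬ Mv R r Z x) → DD cs h X u ⊆ VJ cs h X {i}

theorem DD_conj {u x k : Y} (hx : x ∈ DD cs h X u) (hk : k * x * k⁻¹ ∈ RGD.Sup X (RGD.Pos cs h)) :
    k * x * k⁻¹ ∈ DD cs h X u := by
  obtain ⟨-, g, rfl⟩ := hx
  exact ⟨hk, k * g, by group⟩

theorem good_of_class [Finite W] [Finite Y] [Fact p.Prime] {R : RGD cs h p T n X} {r : I → ℤ}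
    {Z : Subgroup Y} (L : Long R r Z) (hG : GG cs h T X = ⊤) {i : I} {v : W} (hv : rep cs h v r = sr i) :
    Good R r Z i := by
  intro u hu x hx
  by_contra hcon
  exact hu x hx (mv_of_not_mem_VJ L hG hv hx.1 hcon)

theorem cl_of_good [Finite W] [Finite Y] [IsSimpleGroup Y] [Nonempty I] [Fact p.Prime] (R : RGD cs h p T n X)
    (hX : RGD.Sup X {x | IsRoot cs h x} = ⊤) (hconn : Conn M) {r : I → ℤ} {Z : Subgroup Y} (C : Cls R r Z)
    (hgood : ∀ i, Good R r Z i) : KLat.CL Y := by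
  have hG : GG cs h T X = ⊤ := by
    rw [eq_top_iff, ← hX]; exact le_sup_right
  refine cl_of_cls R hX hconn fun u hu hu1 => ?_
  refine ⟨r, Z, C, ?_⟩
  by_contra hcon
  push Not at hcon
  obtain ⟨i, hi⟩ := exists_not_sub R hG hu hu1
  apply hi
  apply hgood i
  rintro x ⟨hx, g, rfl⟩
  exact hcon g

/-! ### roots of rank two subsystems -/

theorem supp_pair {i j : I} {x : I → ℤ} (hij : i ≠ j) (hx : Supp i j x) :
    pairing A i x = A i i * x i + A i j * x j := by
  have := supp_eq hij hx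
  rw [this, pairing_add, pairing_smul, pairing_smul, ← supp_eq hij hx]
  have e1 : pairing A i (sr i) = A i i := by
    have := pairing_single A i i 1
    rw [mul_one] at this
    exact this
  have e2 : pairing A i (sr j) = A i j := by
    have := pairing_single A i j 1
    rw [mul_one] at this
    exact this
  rw [e1, e2]; ring

theorem form_supp [Fintype W] {i j : I} {x : I → ℤ} (hij : i ≠ j) (hx : Supp i j x) :
    2 * form cs h x x = x i * (2 * x i + A i j * x j) * form cs h (sr i) (sr i) +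
      x j * (2 * x j + A j i * x i) * form cs h (sr j) (sr j) := by
  have e0 := supp_eq hij hx
  have h1 : 2 * form cs h x (sr i) = cpr cs h x (sr i) * form cs h (sr i) (sr i) :=
    two_form_cpr cs h x (isRoot_sr cs h i)
  have h2 : 2 * form cs h x (sr j) = cpr cs h x (sr j) * form cs h (sr j) (sr j) :=
    two_form_cpr cs h x (isRoot_sr cs h j)
  rw [cpr_sr, supp_pair hij hx, h.diag] at h1
  rw [cpr_sr, supp_pair hij.symm hx.swap, h.diag] at h2
  have h3 : form cs h x x = x i * form cs h x (sr i) + x j * form cs h x (sr j) := by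
    conv_lhs => rw [e0]
    rw [form_add_left, form_smul_left, form_smul_left, form_comm cs h (sr i), form_comm cs h (sr j), ← e0]
  rw [h3]
  linear_combination x i * h1 + x j * h2

end Cfsg.Agent.H939.RgdTwo
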