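import Mathlib
import Cfsg.Agent.H939.RgdTwo

/-!
Roots of rank two subsystems, decomposition of `V_i`, and the bond `3` (S5900).

* `three_cases`, `four_cases` : positive roots supported on `{i, j}`;
* `V_decomp` : `V_i = Q V_{ij}`, `Q = ⟨X_x : x ∈ PosJ {i, j}, x ≠ α_i⟩`;
* `a2_simple` : `M i j = 3` gives an `A2`;
* `good_of_three`.
-/

set_option autoImplicit false
set_option linter.unusedSectionVars false
set_option linter.dupNamespace false

namespace Cfsg.Agent.H939.RgdV

open CoxeterSystem Cfsg.Agent.ChevalleyStructure.CoxeterGeom Cfsg.Agent.Tits.Roots Cfsg.Agent.Tits.Core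
  Cfsg.Agent.Tits.RootComb Cfsg.Agent.Tits.Exchange Cfsg.Agent.Nodes.Reps Cfsg.Agent.Nodes.BNOf
  Cfsg.Agent.Nodes.StabComb Cfsg.Agent.Nodes.Bruhat Cfsg.Agent.Nodes.OppDec Cfsg.Agent.Nodes.LeviDec
  Cfsg.Agent.Nodes.NormX Cfsg.Agent.Nodes.Coroot Cfsg.Agent.KFacts.RgdSL Cfsg.Agent.Nodes.PosPair
  Cfsg.Agent.H939.RgdA Cfsg.Agent.H939.RgdP Cfsg.Agent.H939.RgdU Cfsg.Agent.H939.RgdMain
  Cfsg.Agent.H939.RgdTwo Cfsg.Agent.KFacts.RgdCharP Cfsg.Agent.Nodes.Comb
open scoped commutatorElement

variable {I W Y : Type*} [Fintype I] [DecidableEq I] [Group W] [Group Y] {M : CoxeterMatrix I}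
  {cs : CoxeterSystem M W} {A : I → I → ℤ} {h : IsCartan M A} {p : ℕ} {T : Subgroup Y} {n : I → Y}
  {X : (I → ℤ) → Subgroup Y}

theorem supp_iff {i j : I} {x : I → ℤ} : Supp i j x ↔ ∀ k, k ∉ ({i, j} : Set I) → x k = 0 := by
  constructor
  · intro hx k hk
    rw [Set.mem_insert_iff, Set.mem_singleton_iff, not_or] at hk
    exact hx k hk.1 hk.2
  · intro hx k h1 h2
    exact hx k (by
      rw [Set.mem_insert_iff, Set.mem_singleton_iff, not_or]
      exact ⟨h1, h2⟩)

/-- length of a root supported on `{i, j}` -/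
theorem form_cases [Fintype W] {i j : I} {x : I → ℤ} (hx : IsRoot cs h x) (hs : Supp i j x) :
    form cs h x x = form cs h (sr i) (sr i) ∨ form cs h x x = form cs h (sr j) (sr j) := by
  obtain ⟨v, -, k, hk, rfl⟩ := exists_of_supp cs h hx hs
  rw [form_rep]
  rcases hk with rfl | rfl
  · left; rfl
  · right; rfl

theorem form_simple_rel [Fintype W] {i j : I} (_hij : i ≠ j) :
    A i j * form cs h (sr i) (sr i) = A j i * form cs h (sr j) (sr j) := by
  have h1 : 2 * form cs h (sr j) (sr i) = cpr cs h (sr j) (sr i) * form cs h (sr i) (sr i) :=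
    two_form_cpr cs h _ (isRoot_sr cs h i)
  have h2 : 2 * form cs h (sr i) (sr j) = cpr cs h (sr i) (sr j) * form cs h (sr j) (sr j) :=
    two_form_cpr cs h _ (isRoot_sr cs h j)
  have e1 : pairing A i (sr j) = A i j := by
    have := pairing_single A i j 1
    rw [mul_one] at this
    exact this
  have e2 : pairing A j (sr i) = A j i := by
    have := pairing_single A j i 1
    rw [mul_one] at this
    exact this
  rw [cpr_sr, e1] at h1
  rw [cpr_sr, e2, form_comm cs h] at h2
  rw [← h1, ← h2]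

theorem rep_simple_sr' {i j : I} : rep cs h (cs.simple j) (sr i) = sr i - A j i • sr j := by
  rw [rep_simple_eq]
  congr 1
  have : pairing A j (sr i) = A j i := by
    have := pairing_single A j i 1
    rw [mul_one] at this
    exact this
  rw [this]

theorem three_cases [Finite W] {i j : I} (hM : M i j = 3) {x : I → ℤ} (hx : IsRoot cs h x) (hs : Supp i j x)
    (h0 : 0 ≤ x) : x = sr i ∨ x = sr j ∨ x = sr i + sr j := by
  have := Fintype.ofFinite W
  have hij : i ≠ j := by
    rintro rfl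
    rw [M.diagonal] at hM; omega
  have hA : A i j = -1 ∧ A j i = -1 := by
    rcases h.rel i j hij with h1 | h1 | h1 | h1
    · omega
    · exact h1.2
    · omega
    · omega
  have hF : form cs h (sr i) (sr i) = form cs h (sr j) (sr j) := by
    have := form_simple_rel (cs := cs) (h := h) hij
    rw [hA.1, hA.2] at this
    linarith
  have hFpos := form_pos cs h (isRoot_sr cs h i).ne_zero
  have h1 := form_supp (cs := cs) (h := h) hij hs
  have h2 : form cs h x x = form cs h (sr i) (sr i) := by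
    rcases form_cases hx hs with h2 | h2
    · exact h2
    · rw [h2, hF]
  rw [h2, ← hF, hA.1, hA.2] at h1
  have h3 : (x i * (2 * x i + -1 * x j) + x j * (2 * x j + -1 * x i) - 2) * form cs h (sr i) (sr i) = 0 := by
    linear_combination -h1
  have h4 := (mul_eq_zero.1 h3).resolve_right hFpos.ne'
  have ha := h0 i
  have hb := h0 j
  simp only [Pi.zero_apply] at ha hb
  have h5 : (x i - x j) * (x i - x j) + x i * x j = 1 := by linarith
  have hab : x i * x j ≤ 1 := by nlinarith [mul_self_nonneg (x i - x j)]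
  have hab0 : 0 ≤ x i * x j := mul_nonneg ha hb
  have e0 := supp_eq hij hs
  have h6 : x i * x j = 0 ∨ x i * x j = 1 := by omega
  rcases h6 with h6 | h6
  · rw [h6, add_zero] at h5
    rcases mul_eq_zero.1 h6 with h7 | h7
    · right; left
      rw [h7] at h5 e0
      have h8 : x j = 1 := by nlinarith
      rw [h8, zero_smul, one_smul, zero_add] at e0
      exact e0
    · left
      rw [h7] at h5 e0
      have h8 : x i = 1 := by nlinarith
      rw [h8, zero_smul, one_smul, add_zero] at e0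
      exact e0
  · right; right
    rw [h6] at h5
    have h7 : x i - x j = 0 := by nlinarith [mul_self_nonneg (x i - x j)]
    have h8 : x i = x j := by linarith
    rw [← h8] at h6
    have h9 : x i = 1 := by nlinarith
    rw [← h8, h9, one_smul, one_smul] at e0
    exact e0

theorem four_aux [Finite W] {i j : I} (hA : A i j = -1 ∧ A j i = -2) (hij : i ≠ j) {x : I → ℤ}
    (hx : IsRoot cs h x) (hs : Supp i j x) (h0 : 0 ≤ x) :
    x = sr i ∨ x = sr j ∨ x = rep cs h (cs.simple i) (sr j) ∨ x = rep cs h (cs.simple j) (sr i) := by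
  have := Fintype.ofFinite W
  have hF : form cs h (sr i) (sr i) = 2 * form cs h (sr j) (sr j) := by
    have := form_simple_rel (cs := cs) (h := h) hij
    rw [hA.1, hA.2] at this
    linarith
  have hFpos := form_pos cs h (isRoot_sr cs h j).ne_zero
  have h1 := form_supp (cs := cs) (h := h) hij hs
  have h2 := form_cases (cs := cs) (h := h) hx hs
  rw [hF, hA.1, hA.2] at h1
  have ha := h0 i
  have hb := h0 j
  simp only [Pi.zero_apply] at ha hb
  have h3 : x i * x i + (x i - x j) * (x i - x j) = 1 ∨ x i * x i + (x i - x j) * (x i - x j) = 2 := by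
    rcases h2 with h2 | h2
    · right
      rw [h2, hF] at h1
      have h3 : (2 * (x i * x i + (x i - x j) * (x i - x j)) - 4) * form cs h (sr j) (sr j) = 0 := by
        linear_combination -h1
      have := (mul_eq_zero.1 h3).resolve_right hFpos.ne'
      linarith
    · left
      rw [h2] at h1
      have h3 : (2 * (x i * x i + (x i - x j) * (x i - x j)) - 2) * form cs h (sr j) (sr j) = 0 := by
        linear_combination -h1
      have := (mul_eq_zero.1 h3).resolve_right hFpos.ne'
      linarith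
  have e0 := supp_eq hij hs
  have e1 : rep cs h (cs.simple i) (sr j) = sr i + sr j := by
    rw [rep_simple_sr', hA.1, neg_one_smul, sub_neg_eq_add, add_comm]
  have e2 : rep cs h (cs.simple j) (sr i) = sr i + (2 : ℤ) • sr j := by
    rw [rep_simple_sr', hA.2, neg_smul, sub_neg_eq_add]
  rw [e1, e2]
  have h4 : x i = 0 ∨ x i = 1 := by
    have h5 : x i * x i ≤ 2 := by
      rcases h3 with h3 | h3 <;> nlinarith [mul_self_nonneg (x i - x j)]
    have h6 : x i ≤ 1 := by nlinarith
    omega
  rcases h4 with h4 | h4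
  · right; left
    rw [h4] at h3 e0
    have h5 : x j = 1 := by
      have h6 : x j * x j = 1 ∨ x j * x j = 2 := by
        rcases h3 with h3 | h3
        · left; linarith
        · right; linarith
      have h7 : x j ≤ 1 := by
        rcases h6 with h6 | h6 <;> nlinarith
      have h8 : x j ≠ 0 := by
        intro h8
        rw [h8] at h6; omega
      omega
    rw [h5, zero_smul, one_smul, zero_add] at e0
    exact e0
  · rw [h4] at h3 e0
    have h5 : x j = 0 ∨ x j = 1 ∨ x j = 2 := by
      have h6 : (1 - x j) * (1 - x j) ≤ 1 := by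
        rcases h3 with h3 | h3 <;> linarith
      have h7 : x j ≤ 2 := by nlinarith
      omega
    rcases h5 with h5 | h5 | h5
    · left
      rw [h5, zero_smul, one_smul, add_zero] at e0
      exact e0
    · right; right; left
      rw [h5, one_smul, one_smul] at e0
      exact e0
    · right; right; right
      rw [h5, one_smul] at e0
      exact e0

theorem four_cases [Finite W] {i j : I} (hM : M i j = 4) {x : I → ℤ}
    (hx : IsRoot cs h x) (hs : Supp i j x) (h0 : 0 ≤ x) :
    x = sr i ∨ x = sr j ∨ x = rep cs h (cs.simple i) (sr j) ∨ x = rep cs h (cs.simple j) (sr i) := by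
  have hij : i ≠ j := by
    rintro rfl
    rw [M.diagonal] at hM; omega
  rcases h.rel i j hij with h1 | h1 | ⟨-, h1 | h1⟩ | h1
  · omega
  · omega
  · exact four_aux h1 hij hx hs h0
  · have := four_aux (cs := cs) (h := h) (i := j) (j := i) ⟨h1.2, h1.1⟩ hij.symm hx hs.swap h0
    tauto
  · omega

/-! ### decomposition -/

/-- the part of `V_i` in `L_{ij}` -/
def QQ (cs : CoxeterSystem M W) (h : IsCartan M A) (X : (I → ℤ) → Subgroup Y) (i j : I) : Subgroup Y :=
  RGD.Sup X {x | x ∈ PosJ cs h {i, j} ∧ x ≠ sr i}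

theorem QQ_le_LJ {i j : I} : QQ cs h X i j ≤ LJ cs h T X {i, j} :=
  RGD.Sup_le fun _ hx => X_le_LJ (PosJ_subset _ hx.1)

theorem QQ_le_VJ {i j : I} : QQ cs h X i j ≤ VJ cs h X {i} := by
  refine RGD.Sup_le fun x hx => RGD.le_Sup (S := NotJ cs h {i}) ?_
  obtain ⟨⟨hr, h0, -⟩, hne⟩ := hx
  obtain ⟨k, hk, hk'⟩ := RGD.exists_coeff hr h0 hne
  exact ⟨hr, h0, k, hk, hk'⟩

theorem VJ_pair_le {i j : I} : VJ cs h X {i, j} ≤ VJ cs h X {i} :=
  RGD.Sup_mono fun _ hx => ⟨hx.1, hx.2.1, by
    obtain ⟨k, hk, hk'⟩ := hx.2.2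
    exact ⟨k, fun h1 => hk (Or.inl h1), hk'⟩⟩

theorem VJ_pair_le' {i j : I} : VJ cs h X {i, j} ≤ VJ cs h X {j} :=
  RGD.Sup_mono fun _ hx => ⟨hx.1, hx.2.1, by
    obtain ⟨k, hk, hk'⟩ := hx.2.2
    exact ⟨k, fun h1 => hk (Or.inr h1), hk'⟩⟩

theorem V_decomp (R : RGD cs h p T n X) {i j : I} {x : Y} (hx : x ∈ VJ cs h X {i}) :
    ∃ l ∈ QQ cs h X i j, ∃ q ∈ VJ cs h X {i, j}, x = l * q := by
  have h1 : VJ cs h X {i} ≤ QQ cs h X i j ⊔ VJ cs h X {i, j} := by
    refine RGD.Sup_le fun x hx => ?_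
    rcases mem_PosJ_or_NotJ {i, j} hx.1 hx.2.1 with h2 | h2
    · refine le_trans (RGD.le_Sup (S := {x | x ∈ PosJ cs h {i, j} ∧ x ≠ sr i}) ⟨h2, ?_⟩) le_sup_left
      rintro rfl
      obtain ⟨k, hk, hk'⟩ := hx.2.2
      rw [sr_ne hk] at hk'
      exact lt_irrefl _ hk'
    · exact (RGD.le_Sup (S := NotJ cs h {i, j}) h2).trans le_sup_right
  have h2 : QQ cs h X i j ≤ Subgroup.normalizer (VJ cs h X {i, j} : Set Y) :=
    QQ_le_LJ.trans (LJ_le_normalizer_VJ R _)
  have h3 : x ∈ ((QQ cs h X i j ⊔ VJ cs h X {i, j} : Subgroup Y) : Set Y) := h1 hx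
  rw [Subgroup.coe_mul_of_left_le_normalizer_right _ _ h2, Set.mem_mul] at h3
  obtain ⟨l, hl, q, hq, e⟩ := h3
  exact ⟨l, hl, q, hq, e.symm⟩

/-! ### simple bonds -/

theorem a2_simple [Finite W] {i j : I} (hM : M i j = 3) : A2 cs h (sr i) (sr j) := by
  have := Fintype.ofFinite W
  have hij : i ≠ j := by
    rintro rfl
    rw [M.diagonal] at hM; omega
  have hA : A i j = -1 ∧ A j i = -1 := by
    rcases h.rel i j hij with h1 | h1 | h1 | h1
    · omega
    · exact h1.2
    · omega
    · omega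
  have hi := isRoot_sr cs h i
  have hj := isRoot_sr cs h j
  have e1 : pairing A i (sr j) = A i j := by
    have := pairing_single A i j 1
    rw [mul_one] at this
    exact this
  have e2 : pairing A j (sr i) = A j i := by
    have := pairing_single A j i 1
    rw [mul_one] at this
    exact this
  have c1 : cpr cs h (sr i) (sr j) = -1 := by rw [cpr_sr, e2, hA.2]
  have c2 : cpr cs h (sr j) (sr i) = -1 := by rw [cpr_sr, e1, hA.1]
  -- a positive combination: all roots between are supported on the pair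
  have key : ∀ (z : I → ℤ) (a b : ℤ), IsRoot cs h z → ∀ m : ℤ, 0 < m → m • z = a • sr i + b • sr j →
      ((z = sr i ∧ a = m ∧ b = 0) ∨ (z = sr j ∧ a = 0 ∧ b = m) ∨ (z = sr i + sr j ∧ a = m ∧ b = m)) ∨
      ((-z = sr i ∧ a = -m ∧ b = 0) ∨ (-z = sr j ∧ a = 0 ∧ b = -m) ∨ (-z = sr i + sr j ∧ a = -m ∧ b = -m)) := by
    intro z a b hz m hm e
    have hs : Supp i j z := by
      intro k hk1 hk2
      have := congrFun e k
      simp only [Pi.smul_apply, Pi.add_apply, smul_eq_mul, sr_ne hk1, sr_ne hk2, mul_zero, add_zero] at this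
      exact (mul_eq_zero.1 this).resolve_left hm.ne'
    have hia : m * z i = a := by
      have := congrFun e i
      simpa only [Pi.smul_apply, Pi.add_apply, smul_eq_mul, sr_self, sr_ne hij, mul_zero, add_zero, mul_one] using this
    have hjb : m * z j = b := by
      have := congrFun e j
      simpa only [Pi.smul_apply, Pi.add_apply, smul_eq_mul, sr_self, sr_ne hij.symm, mul_zero, zero_add, mul_one]
        using this
    rcases hz.pos_or_neg with h0 | h0
    · left
      rcases three_cases hM hz hs h0 with rfl | rfl | rfl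
      · left
        rw [sr_self] at hia
        rw [sr_ne hij.symm] at hjb
        exact ⟨rfl, by omega, by omega⟩
      · right; left
        rw [sr_ne hij] at hia
        rw [sr_self] at hjb
        exact ⟨rfl, by omega, by omega⟩
      · right; right
        rw [Pi.add_apply, sr_self, sr_ne hij] at hia
        rw [Pi.add_apply, sr_self, sr_ne hij.symm] at hjb
        exact ⟨rfl, by omega, by omega⟩
    · right
      have hneg : ∀ k, z k = -((-z) k) := fun k => by rw [Pi.neg_apply, neg_neg]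
      rw [hneg i] at hia
      rw [hneg j] at hjb
      rcases three_cases hM hz.neg hs.neg (neg_nonneg.2 h0) with h1 | h1 | h1
      · left
        rw [h1, sr_self] at hia
        rw [h1, sr_ne hij.symm] at hjb
        exact ⟨h1, by omega, by omega⟩
      · right; left
        rw [h1, sr_ne hij] at hia
        rw [h1, sr_self] at hjb
        exact ⟨h1, by omega, by omega⟩
      · right; right
        rw [h1, Pi.add_apply, sr_self, sr_ne hij] at hia
        rw [h1, Pi.add_apply, sr_self, sr_ne hij.symm] at hjb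
        exact ⟨h1, by omega, by omega⟩
  refine ⟨hi, hj, c1, c2, ?_, ?_, ?_, ?_, ?_, ?_⟩
  · rintro z ⟨hz, m, a, b, hm, ha, hb, e⟩
    rcases key z a b hz m hm e with (h1 | h1 | h1) | (h1 | h1 | h1) <;> first | exact h1.1 | omega
  · rintro z ⟨hz, m, a, b, hm, ha, hb, e⟩
    have e' : m • z = (-a) • sr i + b • sr j := by rw [e, smul_neg, neg_smul]
    rcases key z _ _ hz m hm e' with (h1 | h1 | h1) | (h1 | h1 | h1) <;> omega
  · rintro z ⟨hz, m, a, b, hm, ha, hb, e⟩
    have e' : m • z = (b - a) • sr i + b • sr j := by rw [e]; module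
    rcases key z _ _ hz m hm e' with (h1 | h1 | h1) | (h1 | h1 | h1) <;> first | exact h1.1 | omega
  · rintro z ⟨hz, m, a, b, hm, ha, hb, e⟩
    have e' : m • z = b • sr i + (b - a) • sr j := by rw [e]; module
    rcases key z _ _ hz m hm e' with (h1 | h1 | h1) | (h1 | h1 | h1) <;> first | exact h1.1 | omega
  · rintro z ⟨hz, m, a, b, hm, ha, hb, e⟩
    have e' : m • z = a • sr i + (a + b) • sr j := by rw [e]; module
    rcases key z _ _ hz m hm e' with (h1 | h1 | h1) | (h1 | h1 | h1) <;> omega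
  · rintro z ⟨hz, m, a, b, hm, ha, hb, e⟩
    have e' : m • z = (a + b) • sr i + a • sr j := by rw [e]; module
    rcases key z _ _ hz m hm e' with (h1 | h1 | h1) | (h1 | h1 | h1) <;> omega

theorem QQ_three (R : RGD cs h p T n X) [Finite W] {i j : I} (hM : M i j = 3) {l : Y} (hl : l ∈ QQ cs h X i j) :
    ∃ a ∈ X (sr j), ∃ b ∈ X (sr i + sr j), l = a * b := by
  have hA := a2_simple (cs := cs) (h := h) hM
  have hij : i ≠ j := by
    rintro rfl
    rw [M.diagonal] at hM; omega
  have h1 : QQ cs h X i j ≤ X (sr j) ⊔ X (sr i + sr j) := by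
    refine RGD.Sup_le fun x hx => ?_
    rcases three_cases hM hx.1.1 (supp_iff.2 hx.1.2.2) hx.1.2.1 with rfl | rfl | rfl
    · exact absurd rfl hx.2
    · exact le_sup_left
    · exact le_sup_right
  have h2 : X (sr j) ≤ Subgroup.normalizer (X (sr i + sr j) : Set Y) := by
    intro a ha
    rw [Subgroup.mem_normalizer_iff]
    intro b
    constructor
    · intro hb
      have := hA.comm_right R hb ha
      have e : a * b * a⁻¹ = b := by rw [← this]; group
      rw [e]; exact hb
    · intro hb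
      have := hA.comm_right R hb ha
      have e : a * b * a⁻¹ = b := by
        have e2 : a * (a * b * a⁻¹) = a * b * a⁻¹ * a := this.symm
        have e3 : a * b * a⁻¹ * a = a * b := by group
        rw [e3] at e2
        exact mul_left_cancel e2
      rwa [e] at hb
  have h3 : l ∈ ((X (sr j) ⊔ X (sr i + sr j) : Subgroup Y) : Set Y) := h1 hl
  rw [Subgroup.coe_mul_of_left_le_normalizer_right _ _ h2, Set.mem_mul] at h3
  obtain ⟨a, ha, b, hb, e⟩ := h3
  exact ⟨a, ha, b, hb, e.symm⟩

theorem X_inf_VJ (R : RGD cs h p T n X) [Finite W] {i : I} {a : Y} (ha : a ∈ X (sr i))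
    (ha' : a ∈ VJ cs h X {i}) : a = 1 :=
  eq_one_of_mem_LJ_of_mem_VJ R (J := {i})
    (X_le_LJ (PosJ_subset _ (sr_mem_PosJ (Set.mem_singleton i))) ha) ha'

/-- **bonds of order `3`** -/
theorem good_of_three [Finite W] {R : RGD cs h p T n X} {r : I → ℤ} {Z : Subgroup Y} {i j : I} (hM : M i j = 3)
    (hi : Good R r Z i) : Good R r Z j := by
  have hij : i ≠ j := by
    rintro rfl
    rw [M.diagonal] at hM; omega
  have hA := a2_simple (cs := cs) (h := h) hM
  have hA' : A i j = -1 ∧ A j i = -1 := by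
    rcases h.rel i j hij with h1 | h1 | h1 | h1
    · omega
    · exact h1.2
    · omega
    · omega
  intro u hu x hx
  have hDi := hi u hu
  by_contra hcon
  obtain ⟨l, hl, q, hq, rfl⟩ := V_decomp R (j := j) (hDi hx)
  obtain ⟨a, ha, b, hb, rfl⟩ := QQ_three R hM hl
  have hLn := LJ_le_normalizer_VJ R ({i, j} : Set I)
  have hbV : b ∈ VJ cs h X {j} := by
    refine RGD.le_Sup (S := NotJ cs h {j}) ⟨hA.rxy, fun k => ?_, i, hij, ?_⟩ hb
    · rw [Pi.add_apply]
      exact add_nonneg (sr_nonneg i k) (sr_nonneg j k)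
    · rw [Pi.add_apply, sr_self, sr_ne hij]; norm_num
  have ha1 : a ≠ 1 := by
    rintro rfl
    apply hcon
    rw [one_mul]
    exact mul_mem hbV (VJ_pair_le' hq)
  -- kill `b`
  obtain ⟨t, ht, e⟩ := hA.symm.comm_surj R ha ha1 (w := b) (by rw [add_comm]; exact hb)
  have htL : t ∈ LJ cs h T X {i, j} := X_le_LJ (PosJ_subset _ (sr_mem_PosJ (Set.mem_insert i _))) ht
  have hniL : n i ∈ LJ cs h T X {i, j} := n_mem_LJ R (Set.mem_insert i _)
  have hnjL : n j ∈ LJ cs h T X {i, j} := n_mem_LJ R (Set.mem_insert_of_mem i (Set.mem_singleton j))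
  have htV : t * q * t⁻¹ ∈ VJ cs h X {i, j} := (Subgroup.mem_normalizer_iff.1 (hLn htL) q).1 hq
  have hbt : t * b = b * t := by
    have := hA.comm_left R (u := b) (v := t) hb ht
    exact this.symm
  have hab : a * b = b * a := (hA.comm_right R hb ha).symm
  have e1 : t * (a * b * q) * t⁻¹ = a * (t * q * t⁻¹) := by
    have h2 : a * t = b * t * a := by
      rw [← e, commutatorElement_def]; group
    have h3 : t * a = b⁻¹ * (a * t) := by rw [h2]; group
    calc t * (a * b * q) * t⁻¹ = (t * a) * b * q * t⁻¹ := by group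
      _ = b⁻¹ * a * (t * b) * q * t⁻¹ := by rw [h3]; group
      _ = b⁻¹ * (a * b) * t * q * t⁻¹ := by rw [hbt]; group
      _ = a * (t * q * t⁻¹) := by rw [hab]; group
  have hUi : ∀ y ∈ VJ cs h X {i}, y ∈ RGD.Sup X (RGD.Pos cs h) := fun y hy => VJ_le_U _ hy
  have haV : a ∈ VJ cs h X {i} := RGD.le_Sup (S := NotJ cs h {i}) (sr_mem_NotJ (by
    rw [Set.mem_singleton_iff]; exact hij.symm)) ha
  have hx1 : t * (a * b * q) * t⁻¹ ∈ DD cs h X u := by
    refine DD_conj hx ?_
    rw [e1]
    exact hUi _ (mul_mem haV (VJ_pair_le htV))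
  rw [e1] at hx1
  set q' := t * q * t⁻¹ with hq'
  -- conjugate by `n i`
  have hsr := isRoot_sr cs h j
  have hb' : n i * a * (n i)⁻¹ ∈ X (sr i + sr j) := by
    have h1 := R.conj_mem (rp_simple cs R.nsys i) hsr ha
    rwa [rep_simple_sr', hA'.1, neg_one_smul, sub_neg_eq_add, add_comm] at h1
  have hq1 : n i * q' * (n i)⁻¹ ∈ VJ cs h X {i, j} := (Subgroup.mem_normalizer_iff.1 (hLn hniL) q').1 htV
  have hb'V : n i * a * (n i)⁻¹ ∈ VJ cs h X {i} := by
    refine RGD.le_Sup (S := NotJ cs h {i}) ⟨hA.rxy, fun k => ?_, j, hij.symm, ?_⟩ hb'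
    · rw [Pi.add_apply]
      exact add_nonneg (sr_nonneg i k) (sr_nonneg j k)
    · rw [Pi.add_apply, sr_self, sr_ne hij.symm]; norm_num
  have e2 : n i * (a * q') * (n i)⁻¹ = (n i * a * (n i)⁻¹) * (n i * q' * (n i)⁻¹) := by group
  have hx2 : n i * (a * q') * (n i)⁻¹ ∈ DD cs h X u := by
    refine DD_conj hx1 ?_
    rw [e2]
    exact hUi _ (mul_mem hb'V (VJ_pair_le hq1))
  rw [e2] at hx2
  -- conjugate by `n j`
  set c := n j * (n i * a * (n i)⁻¹) * (n j)⁻¹ with hc
  have hc1 : c ∈ X (sr i) := by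
    have h1 := R.conj_mem (rp_simple cs R.nsys j) hA.rxy hb'
    rw [map_add, rep_simple_sr', rep_simple_sr, hA'.2, neg_one_smul, sub_neg_eq_add] at h1
    have e : sr i + sr j + -sr j = (sr i : I → ℤ) := by abel
    rwa [e] at h1
  have hq2 : n j * (n i * q' * (n i)⁻¹) * (n j)⁻¹ ∈ VJ cs h X {i, j} :=
    (Subgroup.mem_normalizer_iff.1 (hLn hnjL) _).1 hq1
  have e3 : n j * ((n i * a * (n i)⁻¹) * (n i * q' * (n i)⁻¹)) * (n j)⁻¹ =
      c * (n j * (n i * q' * (n i)⁻¹) * (n j)⁻¹) := by rw [hc]; group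
  have hx3 : n j * ((n i * a * (n i)⁻¹) * (n i * q' * (n i)⁻¹)) * (n j)⁻¹ ∈ DD cs h X u := by
    refine DD_conj hx2 ?_
    rw [e3]
    exact mul_mem (RGD.le_Sup (S := RGD.Pos cs h) ⟨isRoot_sr cs h i, sr_nonneg i⟩ hc1) (VJ_le_U _ hq2)
  rw [e3] at hx3
  have hc2 : c ∈ VJ cs h X {i} := by
    have h1 := mul_mem (hDi hx3) (inv_mem (VJ_pair_le (i := i) (j := j) hq2))
    rwa [mul_inv_cancel_right] at h1
  have hc3 := X_inf_VJ R hc1 hc2
  apply ha1
  have : a = (n i)⁻¹ * ((n j)⁻¹ * c * n j) * n i := by rw [hc]; group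
  rw [this, hc3]; group

end Cfsg.Agent.H939.RgdV
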