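import Mathlib
import Cfsg.Agent.H939.RgdTwo

/-!
Classes of root subgroups from local data (S5900): `cls_of`, `stab_of`, `conj_fam`.
-/

set_option autoImplicit false
set_option linter.unusedSectionVars false
set_option linter.dupNamespace false

namespace Cfsg.Agent.H939.ClsOf

open CoxeterSystem Cfsg.Agent.ChevalleyStructure.CoxeterGeom Cfsg.Agent.Tits.Roots Cfsg.Agent.Tits.Core
  Cfsg.Agent.Tits.RootComb Cfsg.Agent.Tits.Exchange Cfsg.Agent.Nodes.Reps Cfsg.Agent.Nodes.BNOf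
  Cfsg.Agent.Nodes.StabComb Cfsg.Agent.Nodes.Bruhat Cfsg.Agent.Nodes.OppDec Cfsg.Agent.Nodes.LeviDec
  Cfsg.Agent.Nodes.NormX Cfsg.Agent.Nodes.Coroot Cfsg.Agent.KFacts.RgdSL Cfsg.Agent.Nodes.PosPair
  Cfsg.Agent.H939.RgdA Cfsg.Agent.H939.RgdP Cfsg.Agent.H939.RgdU Cfsg.Agent.H939.RgdMain Cfsg.Agent.H939.RgdTwo
  Cfsg.Agent.KFacts.RgdCharP Cfsg.Agent.Nodes.Comb

variable {I W Y : Type*} [Fintype I] [DecidableEq I] [Group W] [Group Y] {M : CoxeterMatrix I}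
  {cs : CoxeterSystem M W} {A : I → I → ℤ} {h : IsCartan M A} {p : ℕ} {T : Subgroup Y} {n : I → Y}
  {X : (I → ℤ) → Subgroup Y}

/-- a family of subgroups permuted by the `n i` -/
theorem conj_fam (R : RGD cs h p T n X) {zz : (I → ℤ) → Subgroup Y} {O : Set (I → ℤ)}
    (hO : ∀ i, ∀ x ∈ O, rep cs h (cs.simple i) x ∈ O)
    (hc : ∀ i, ∀ x ∈ O, cj (n i) (zz x) = zz (rep cs h (cs.simple i) x))
    (ht : ∀ x ∈ O, ∀ t ∈ T, cj t (zz x) = zz x) {w : W} {k : Y} (hk : Rp cs R.nsys w k) {x : I → ℤ} (hx : x ∈ O) :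
    cj k (zz x) = zz (rep cs h w x) := by
  have key : ∀ ω : List I, ∀ x ∈ O, rep cs h (cs.wordProd ω) x ∈ O ∧ ∃ k, Rp cs R.nsys (cs.wordProd ω) k ∧
      cj k (zz x) = zz (rep cs h (cs.wordProd ω) x) := by
    intro ω
    induction ω with
    | nil =>
      intro x hx
      refine ⟨by rw [wordProd_nil, map_one, Module.End.one_apply]; exact hx, 1, by rw [wordProd_nil]; exact rp_one, ?_⟩
      rw [wordProd_nil, cj_one, map_one, Module.End.one_apply]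
    | cons i ω ih =>
      intro x hx
      obtain ⟨h1, k, hk, e⟩ := ih x hx
      rw [wordProd_cons, rep_mul_apply]
      refine ⟨hO i _ h1, n i * k, ?_, ?_⟩
      · exact (rp_simple cs R.nsys i).mul hk
      · rw [cj_mul, e, hc i _ h1]
  obtain ⟨ω, rfl⟩ := cs.wordProd_surjective w
  obtain ⟨h1, k', hk', e⟩ := key ω x hx
  have h2 : k'⁻¹ * k ∈ T := hk'.unique hk
  have h3 : k = k' * (k'⁻¹ * k) := by group
  rw [h3, cj_mul, ht x hx _ h2, e]

/-- **a class from local data** -/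
theorem cls_of [Finite W] [Fact p.Prime] (R : RGD cs h p T n X) {r : I → ℤ} {Z : Subgroup Y} (hr : IsRoot cs h r)
    (hd : Dom A r) (hle : Z ≤ X r) (hne : Z ≠ ⊥) (hT : ∀ t ∈ T, cj t Z = Z)
    (hst : ∀ w k, Rp cs R.nsys w k → rep cs h w r = r → cj k Z = Z)
    (hB : ∀ x, IsRoot cs h x → 0 ≤ x → ∀ z ∈ Z, ∀ g ∈ X x, z * g = g * z)
    (hV : ∀ x ∈ NotJ cs h (orth cs h r), ∀ y ∈ NotJ cs h (orth cs h r), ∀ g ∈ X x, ∀ k ∈ X y,
      g * k * g⁻¹ * k⁻¹ ∈ Z)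
    (hV' : ∀ x ∈ NotJ cs h (orth cs h r), ∀ g ∈ X x, g ^ p ∈ Z) (hp : ∀ z ∈ Z, z ^ p = 1) : Cls R r Z := by
  have hnorm : ∀ x, IsRoot cs h x → 0 ≤ x → X x ≤ Subgroup.normalizer (Z : Set Y) := by
    intro x hx h0 g hg
    rw [Subgroup.mem_normalizer_iff]
    intro z
    constructor
    · intro hz
      rw [← hB x hx h0 z hz g hg, mul_inv_cancel_right]
      exact hz
    · intro hz
      have h1 := hB x hx h0 _ hz g hg
      rw [inv_mul_cancel_right] at h1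
      rwa [← mul_left_cancel h1] at hz
  have hBn : RGD.B cs h T X ≤ Subgroup.normalizer (Z : Set Y) := by
    refine sup_le ?_ (RGD.Sup_le fun x hx => hnorm x hx.1 hx.2)
    intro t ht
    rw [mem_normalizer_iff_cj]
    exact hT t ht
  have L : Long R r Z := ⟨hr, hd, hle, hne, hBn, hst⟩
  have h0 : 0 ≤ r := L.r_nonneg
  refine ⟨L, ?_, ?_⟩
  · refine Opp.elemMod_of_gen (p := p) (S := {u | ∃ x ∈ NotJ cs h (orth cs h r), u ∈ X x}) ?_ (Z_le_VJ L) ?_ ?_ ?_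
    · apply le_antisymm
      · refine RGD.Sup_le fun x hx u hu => Subgroup.subset_closure ⟨x, hx, hu⟩
      · rw [Subgroup.closure_le]
        rintro u ⟨x, hx, hu⟩
        exact RGD.le_Sup (S := NotJ cs h (orth cs h r)) hx hu
    · rintro u ⟨x, hx, hu⟩
      exact hnorm x hx.1 hx.2.1 hu
    · rintro u ⟨x, hx, hu⟩ v ⟨y, hy, hv⟩
      exact hV x hx y hy u hu v hv
    · rintro u ⟨x, hx, hu⟩
      exact hV' x hx u hu
  · exact Opp.elem_of (p := p) (fun x hx y hy => hB r hr h0 x hx y (hle hy)) hp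

end Cfsg.Agent.H939.ClsOf
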