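import Mathlib
import Cfsg.Agent.H939.HexOpp
import Cfsg.Agent.H939.HexColl

/-!
The short node of `³D₄(q)` (S5900).
-/

set_option autoImplicit false
set_option linter.unusedSectionVars false
set_option linter.dupNamespace false

namespace Cfsg.Agent.H939.HexShort

open CoxeterSystem Cfsg.Agent.ChevalleyStructure.CoxeterGeom Cfsg.Agent.Tits.Roots Cfsg.Agent.Tits.Core
  Cfsg.Agent.Tits.RootComb Cfsg.Agent.Tits.Exchange Cfsg.Agent.Nodes.Reps Cfsg.Agent.Nodes.BNOf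
  Cfsg.Agent.Nodes.StabComb Cfsg.Agent.Nodes.Bruhat Cfsg.Agent.Nodes.OppDec Cfsg.Agent.Nodes.LeviDec
  Cfsg.Agent.Nodes.NormX Cfsg.Agent.Nodes.Coroot Cfsg.Agent.KFacts.RgdSL Cfsg.Agent.Nodes.PosPair
  Cfsg.Agent.H939.RgdA Cfsg.Agent.H939.RgdP Cfsg.Agent.H939.RgdU Cfsg.Agent.H939.RgdMain
  Cfsg.Agent.H939.RgdTwo Cfsg.Agent.H939.RgdV Cfsg.Agent.KFacts.RgdCharP Cfsg.Agent.Nodes.Comb
  Cfsg.Agent.H939.HexOpp Cfsg.Agent.H939.HexColl Cfsg.Agent.H939.HexField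
open Cfsg.Agent.SplitTwo
open Cfsg.Agent.Nodes.RGDTwD4 (isCartan)

local notation "A" => Cfsg.Agent.Nodes.RGDTwD4.A

variable {W : Type*} [Group W] {cs : CoxeterSystem CoxeterMatrix.G₂ W} {Y : Type*} [Group Y] {p : ℕ}
  {T : Subgroup Y} {n : Fin 2 → Y} {X : (Fin 2 → ℤ) → Subgroup Y} (R : RGD cs isCartan p T n X)
  {K : Type*} [Field K] {σ : K ≃+* K} {x1 x2 x3 x4 x5 x6 : K → Y}
  (P : HexPar σ (fun k => X (rv k)) x1 x2 x3 x4 x5 x6)

local notation "E" => EE x1 x2 x3 x4 x5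

include R in
/-- conjugation of root groups -/
theorem conj_rv (i : Fin 2) {k j : ZMod (2 * 6)} (hj : rv k - pairing A i (rv k) • sr i = rv j) {g : Y}
    (hg : g ∈ X (rv k)) : n i * g * (n i)⁻¹ ∈ X (rv j) := by
  have h1 := R.conj i (rv k) (isRoot_rv k)
  rw [rep_simple_eq, hj] at h1
  rw [← h1, mem_cj]
  have e : (n i)⁻¹ * (n i * g * (n i)⁻¹) * n i = g := by group
  rwa [e]

theorem notJ_zero : ∀ k : ZMod (2 * 6), (∀ i : Fin 2, 0 ≤ rv k i) → (∃ i : Fin 2, i ≠ 0 ∧ 0 < rv k i) →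
    k ∈ ([1, 2, 3, 4, 5] : List (ZMod (2 * 6))) := by decide +kernel

include P in
theorem eq_E {g : Y} (hg : g ∈ VJ cs isCartan X {0}) :
    ∃ s t a u b : K, σ t = t ∧ σ u = u ∧ g = E s t a u b := by
  have H := P.rel
  have h0 : σ (0 : K) = 0 := map_zero σ
  have key : ∀ y : Y, (∃ s t a u b : K, σ t = t ∧ σ u = u ∧ y = E s t a u b) →
      ∃ s t a u b : K, σ t = t ∧ σ u = u ∧ y * g = E s t a u b := by
    unfold VJ RGD.Sup at hg
    refine Subgroup.iSup_induction (C := fun g => ∀ y : Y, (∃ s t a u b : K, σ t = t ∧ σ u = u ∧ y = E s t a u b) →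
      ∃ s t a u b : K, σ t = t ∧ σ u = u ∧ y * g = E s t a u b) _ hg ?_ ?_ ?_
    · rintro ⟨v, hv, hv0, k, hk, hk'⟩ x hx y ⟨s, t, a, u, b, ht, hu, rfl⟩
      obtain ⟨j, rfl⟩ := (isRoot_iff v).1 hv
      have hj := notJ_zero j hv0 ⟨k, hk, hk'⟩
      simp only [List.mem_cons, List.not_mem_nil, or_false] at hj
      rcases hj with rfl | rfl | rfl | rfl | rfl
      · obtain ⟨c, rfl⟩ := (P.mem1 x).1 hx
        obtain ⟨u', hu', e⟩ := E_mul_x1 H ht hu s a b c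
        refine ⟨_, _, _, _, _, ?_, hu', e⟩
        rw [map_add, map_sub, ht, fix_trc σ H.cube, fix_trc σ H.cube]
      · obtain ⟨c, hc, rfl⟩ := (P.mem2 x).1 hx
        have e0 : x2 c = mm x2 x3 x4 c 0 0 := by simp [mm, x3_zero H, x4_zero H]
        refine ⟨_, _, _, _, _, ?_, ?_, by rw [e0]; exact E_mul_mm H ht hu hc h0 s a 0 b⟩
        · rw [map_add, ht, hc]
        · rw [map_add, map_sub, hu, h0, fix_trc σ H.cube]
      · obtain ⟨c, rfl⟩ := (P.mem3 x).1 hx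
        have e0 : x3 c = mm x2 x3 x4 0 c 0 := by simp [mm, x2_zero H, x4_zero H]
        refine ⟨_, _, _, _, _, ?_, ?_, by rw [e0]; exact E_mul_mm H ht hu h0 h0 s a c b⟩
        · rw [map_add, ht, h0]
        · rw [map_add, map_sub, hu, h0, fix_trc σ H.cube]
      · obtain ⟨c, hc, rfl⟩ := (P.mem4 x).1 hx
        have e0 : x4 c = mm x2 x3 x4 0 0 c := by simp [mm, x2_zero H, x3_zero H]
        refine ⟨_, _, _, _, _, ?_, ?_, by rw [e0]; exact E_mul_mm H ht hu h0 hc s a 0 b⟩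
        · rw [map_add, ht, h0]
        · rw [map_add, map_sub, hu, hc, fix_trc σ H.cube]
      · obtain ⟨c, rfl⟩ := (P.mem5 x).1 hx
        exact ⟨_, _, _, _, _, ht, hu, E_mul_x5 H s a b c⟩
    · intro y hy; rw [mul_one]; exact hy
    · intro x y ihx ihy z hz; rw [← mul_assoc]; exact ihy _ (ihx _ hz)
  have := key 1 ⟨0, 0, 0, 0, 0, h0, h0, by
    simp [EE, mm, x1_zero H, x2_zero H, x3_zero H, x4_zero H, x5_zero H]⟩
  rwa [one_mul] at this

include P in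
/-- the short node -/
theorem good1 [Finite W] (hnd : ∀ a : K, a ≠ 0 → ∃ b, trc σ a b ≠ 0) (hσ : ∃ c : K, σ c ≠ c)
    (L : Long R (rv 4) (X (rv 4))) (g0 : Good R (rv 4) (X (rv 4)) 0) : Good R (rv 4) (X (rv 4)) 1 := by
  have H := P.rel
  have h0 : σ (0 : K) = 0 := map_zero σ
  have h1 : σ (1 : K) = 1 := map_one σ
  intro u₀ hu₀ x hx
  have hDi : DD cs isCartan X u₀ ⊆ VJ cs isCartan X {0} := g0 u₀ hu₀
  by_contra hcon
  have mU : ∀ k ∈ ([1, 2, 3, 4, 5, 6] : List (ZMod (2 * 6))), ∀ g ∈ X (rv k), g ∈ RGD.Sup X (RGD.Pos cs isCartan) :=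
    fun k hk g hg => RGD.le_Sup (S := RGD.Pos cs isCartan) ⟨isRoot_rv k, rv_pos k hk⟩ hg
  have q1 : ∀ a, x1 a ∈ X (rv 1) := fun a => (P.mem1 _).2 ⟨a, rfl⟩
  have q2 : ∀ a, σ a = a → x2 a ∈ X (rv 2) := fun a ha => (P.mem2 _).2 ⟨a, ha, rfl⟩
  have q3 : ∀ a, x3 a ∈ X (rv 3) := fun a => (P.mem3 _).2 ⟨a, rfl⟩
  have q4 : ∀ a, σ a = a → x4 a ∈ X (rv 4) := fun a ha => (P.mem4 _).2 ⟨a, ha, rfl⟩
  have q5 : ∀ a, x5 a ∈ X (rv 5) := fun a => (P.mem5 _).2 ⟨a, rfl⟩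
  have q6 : ∀ a, σ a = a → x6 a ∈ X (rv 6) := fun a ha => (P.mem6 _).2 ⟨a, ha, rfl⟩
  have u1 := fun a => mU 1 (by decide +kernel) _ (q1 a)
  have u3 := fun a => mU 3 (by decide +kernel) _ (q3 a)
  have u5 := fun a => mU 5 (by decide +kernel) _ (q5 a)
  have u6 := fun a ha => mU 6 (by decide +kernel) _ (q6 a ha)
  -- the coordinate at `x₂`
  have k2 : ∀ t a u b : K, σ t = t → σ u = u → E 0 t a u b ∈ DD cs isCartan X u₀ → t = 0 := by
    intro t a u b ht hu hE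
    have c2 := conj_rv R 1 (k := 2) (j := 6) (by decide +kernel) (q2 t ht)
    have c3 := conj_rv R 1 (k := 3) (j := 5) (by decide +kernel) (q3 a)
    have c4 := conj_rv R 1 (k := 4) (j := 4) (by decide +kernel) (q4 u hu)
    have c5 := conj_rv R 1 (k := 5) (j := 3) (by decide +kernel) (q5 b)
    have e : n 1 * E 0 t a u b * (n 1)⁻¹ = (n 1 * x2 t * (n 1)⁻¹) * ((n 1 * x3 a * (n 1)⁻¹) *
        ((n 1 * x4 u * (n 1)⁻¹) * (n 1 * x5 b * (n 1)⁻¹))) := by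
      unfold EE mm
      rw [x1_zero H]
      group
    have h2 : n 1 * E 0 t a u b * (n 1)⁻¹ ∈ DD cs isCartan X u₀ := by
      refine DD_conj hE ?_
      rw [e]
      exact mul_mem (mU 6 (by decide +kernel) _ c2) (mul_mem (mU 5 (by decide +kernel) _ c3)
        (mul_mem (mU 4 (by decide +kernel) _ c4) (mU 3 (by decide +kernel) _ c5)))
    have h3 := hDi h2
    rw [e] at h3
    have v : ∀ k ∈ ([3, 4, 5] : List (ZMod (2 * 6))), ∀ g ∈ X (rv k), g ∈ VJ cs isCartan X {0} := by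
      intro k hk g hg
      have h4 : ∀ k ∈ ([3, 4, 5] : List (ZMod (2 * 6))), (∀ i : Fin 2, 0 ≤ rv k i) ∧
        ∃ i : Fin 2, i ≠ 0 ∧ 0 < rv k i := by decide +kernel
      obtain ⟨h5, i, hi, hi'⟩ := h4 k hk
      exact RGD.le_Sup (S := NotJ cs isCartan {0}) ⟨isRoot_rv k, h5, i, hi, hi'⟩ hg
    have h5 := (Subgroup.mul_mem_cancel_right _ (mul_mem (v 5 (by decide +kernel) _ c3)
      (mul_mem (v 4 (by decide +kernel) _ c4) (v 3 (by decide +kernel) _ c5)))).1 h3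
    rw [← sr0] at c2
    have h6 := X_inf_VJ R c2 h5
    have h7 : x2 t = 1 := by
      have : x2 t = (n 1)⁻¹ * (n 1 * x2 t * (n 1)⁻¹) * n 1 := by group
      rw [this, h6]; group
    rw [← x2_zero H] at h7
    exact P.inj2 _ _ ht h0 h7
  obtain ⟨s, t, a, u, b, ht, hu, rfl⟩ := eq_E P (hDi hx)
  have hs : s ≠ 0 := by
    rintro rfl
    apply hcon
    unfold EE mm
    rw [x1_zero H, one_mul]
    have v : ∀ k ∈ ([2, 3, 4, 5] : List (ZMod (2 * 6))), ∀ g ∈ X (rv k), g ∈ VJ cs isCartan X {1} := by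
      intro k hk g hg
      have h4 : ∀ k ∈ ([2, 3, 4, 5] : List (ZMod (2 * 6))), (∀ i : Fin 2, 0 ≤ rv k i) ∧
        ∃ i : Fin 2, i ≠ 1 ∧ 0 < rv k i := by decide +kernel
      obtain ⟨h5, i, hi, hi'⟩ := h4 k hk
      exact RGD.le_Sup (S := NotJ cs isCartan {1}) ⟨isRoot_rv k, h5, i, hi, hi'⟩ hg
    exact mul_mem (mul_mem (v 2 (by decide +kernel) _ (q2 t ht)) (mul_mem (v 3 (by decide +kernel) _ (q3 a))
      (v 4 (by decide +kernel) _ (q4 u hu)))) (v 5 (by decide +kernel) _ (q5 b))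
  have step : ∀ {y k : Y}, y ∈ DD cs isCartan X u₀ → k ∈ RGD.Sup X (RGD.Pos cs isCartan) →
      k⁻¹ * y * k ∈ DD cs isCartan X u₀ := by
    intro y k hy hk
    have := DD_conj (k := k⁻¹) hy (mul_mem (mul_mem (inv_mem hk) hy.1) (inv_mem (inv_mem hk)))
    rwa [inv_inv] at this
  by_cases hdep : ∃ l : K, σ l = l ∧ b = l * s
  · obtain ⟨l, hl, rfl⟩ := hdep
    obtain ⟨t', a', u', ht', hu', e⟩ := E_conj6 H hl ht hu s a (l * s)
    rw [sub_self] at e
    have hx1 := step hx (u6 l hl)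
    rw [e] at hx1
    -- conjugation by `n₀`
    have c1 := conj_rv R 0 (k := 1) (j := 5) (by decide +kernel) (q1 s)
    have c2 := conj_rv R 0 (k := 2) (j := 4) (by decide +kernel) (q2 t' ht')
    have c3 := conj_rv R 0 (k := 3) (j := 3) (by decide +kernel) (q3 a')
    have c4 := conj_rv R 0 (k := 4) (j := 2) (by decide +kernel) (q4 u' hu')
    obtain ⟨s₁, e1⟩ := (P.mem5 _).1 c1
    obtain ⟨t₁, ht₁, e2⟩ := (P.mem4 _).1 c2
    obtain ⟨a₁, e3⟩ := (P.mem3 _).1 c3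
    obtain ⟨u₁, hu₁, e4⟩ := (P.mem2 _).1 c4
    have hs₁ : s₁ ≠ 0 := by
      rintro rfl
      apply hs
      rw [x5_zero H] at e1
      have : x1 s = (n 0)⁻¹ * (n 0 * x1 s * (n 0)⁻¹) * n 0 := by group
      rw [← e1] at this
      have h2 : x1 s = x1 0 := by rw [this, x1_zero H]; group
      exact P.inj1 _ _ h2
    have e5 : n 0 * E s t' a' u' 0 * (n 0)⁻¹ = E 0 u₁ a₁ (t₁ - trc σ a₁ s₁) s₁ := by
      have e6 : n 0 * E s t' a' u' 0 * (n 0)⁻¹ = (n 0 * x1 s * (n 0)⁻¹) * ((n 0 * x2 t' * (n 0)⁻¹) *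
        ((n 0 * x3 a' * (n 0)⁻¹) * (n 0 * x4 u' * (n 0)⁻¹))) := by
        unfold EE mm
        rw [x5_zero H]
        group
      rw [e6, ← e1, ← e2, ← e3, ← e4]
      unfold EE
      rw [← x5_mm H hu₁ ht₁, x1_zero H, one_mul]
      congr 1
      unfold mm
      have f1 := comm_of_kk (H.c24 u₁ t₁ hu₁ ht₁)
      have f2 := comm_of_kk (H.c34 a₁ t₁ ht₁)
      have f3 := comm_of_kk (H.c23 u₁ a₁ hu₁)
      calc x4 t₁ * (x3 a₁ * x2 u₁) = (x4 t₁ * x3 a₁) * x2 u₁ := by group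
        _ = x3 a₁ * (x4 t₁ * x2 u₁) := by rw [f2]; group
        _ = (x3 a₁ * x2 u₁) * x4 t₁ := by rw [f1]; group
        _ = _ := by rw [f3]; group
    have ht2 : σ (t₁ - trc σ a₁ s₁) = t₁ - trc σ a₁ s₁ := by rw [map_sub, ht₁, fix_trc σ H.cube]
    have hx2 : E 0 u₁ a₁ (t₁ - trc σ a₁ s₁) s₁ ∈ DD cs isCartan X u₀ := by
      rw [← e5]
      refine DD_conj hx1 ?_
      rw [e5]
      unfold EE mm
      exact mul_mem (u1 _) (mul_mem (mul_mem (mU 2 (by decide +kernel) _ (q2 _ hu₁)) (mul_mem (u3 _)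
        (mU 4 (by decide +kernel) _ (q4 _ ht2)))) (u5 _))
    have key : ∀ w : K, u₁ - trc σ w a₁ + trc σ (shp σ w) s₁ = 0 := by
      intro w
      obtain ⟨u', hu', e⟩ := E_conj1 H hu₁ ht2 0 a₁ s₁ w
      have h2 := step hx2 (u1 w)
      rw [e] at h2
      refine k2 _ _ _ _ ?_ hu' h2
      rw [map_add, map_sub, hu₁, fix_trc σ H.cube, fix_trc σ H.cube]
    apply hs₁
    refine eq_zero_of_crs σ H.cube hnd hσ fun v w => ?_
    have f0 := key 0
    have fv := key v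
    have fw := key w
    have fvw := key (v + w)
    have e1 : trc σ (crs σ v w) s₁ = trc σ (shp σ (v + w)) s₁ - trc σ (shp σ v) s₁ - trc σ (shp σ w) s₁ +
        trc σ (shp σ 0) s₁ := by
      simp only [trc, crs, shp, map_add, map_mul, map_zero]; ring
    have e2 : trc σ (v + w) a₁ = trc σ v a₁ + trc σ w a₁ := by
      simp only [trc, add_mul, map_add]; ring
    have e3 : trc σ 0 a₁ = 0 := by simp [trc]
    rw [e1]
    rw [e2] at fvw
    rw [e3] at f0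
    linear_combination f0 - fv - fw + fvw
  · push Not at hdep
    have hb : b ≠ 0 := by
      rintro rfl
      exact hdep 0 h0 (zero_mul s).symm
    obtain ⟨w, w', hww⟩ := exists_crs_two σ H.cube hnd hs hb hdep (-a)
    obtain ⟨t1, v1, ht1, hv1, e1⟩ := E_conj5 H ht hu s a b w
    have hx1 := step hx (u5 w)
    rw [e1] at hx1
    obtain ⟨v2, hv2, e2⟩ := E_conj1 H ht1 hv1 s (a + crs σ s w) b (-w')
    have hx2 := step hx1 (u1 (-w'))
    rw [e2] at hx2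
    have e3 : a + crs σ s w + -crs σ (-w') b = 0 := by
      have : crs σ (-w') b = -crs σ b w' := by
        simp only [crs, map_neg]; ring
      rw [this, neg_neg]
      linear_combination hww
    rw [e3] at hx2
    have ht2 : σ (t1 - trc σ (-w') (a + crs σ s w) + trc σ (shp σ (-w')) b) =
        t1 - trc σ (-w') (a + crs σ s w) + trc σ (shp σ (-w')) b := by
      rw [map_add, map_sub, ht1, fix_trc σ H.cube, fix_trc σ H.cube]
    set t2 := t1 - trc σ (-w') (a + crs σ s w) + trc σ (shp σ (-w')) b with ht2'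
    obtain ⟨w3, hw3, hw3'⟩ := exists_two σ H.cube hnd hs hdep (u := -t2) (v := v2 - 1) (by rw [map_neg, ht2])
      (by rw [map_sub, hv2, h1])
    have hx3 := step hx2 (u3 w3)
    rw [E_conj3 H ht2 hv2 s 0 b w3, hw3, trc_comm σ w3 b, hw3'] at hx3
    have e4 : t2 + -t2 = 0 := by ring
    have e5 : v2 - (v2 - 1) = 1 := by ring
    rw [e4, e5] at hx3
    have e6 : E s 0 0 1 b = x1 s * (x5 b * x4 1) := by
      unfold EE mm
      rw [x2_zero H, x3_zero H, one_mul, one_mul, comm_of_kk (H.c45 1 b h1)]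
    apply hu₀ _ hx3
    rw [e6]
    refine opp_E R L (q1 s) (q4 1 h1) ?_ (q5 b)
    intro h2
    rw [← x4_zero H] at h2
    exact one_ne_zero (P.inj4 _ _ h1 h0 h2)

end Cfsg.Agent.H939.HexShort
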