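import Mathlib
import Cfsg.Agent.H939.ChevCls

/-!
Complemented subgroup lattices (S5900): `F₄(q)`, and `G₂(3^k)`.
-/

set_option autoImplicit false
set_option linter.unusedSectionVars false
set_option linter.dupNamespace false

namespace Cfsg.Agent.H939.InstF4

open CoxeterSystem Cfsg.Agent.ChevalleyStructure.CoxeterGeom Cfsg.Agent.Tits.Roots Cfsg.Agent.Tits.Core
  Cfsg.Agent.Tits.RootComb Cfsg.Agent.Nodes.Comb Cfsg.Agent.Nodes.Reps Cfsg.Agent.Nodes.BNOf
  Cfsg.Agent.Nodes.StabComb Cfsg.Agent.Nodes.LeviDec Cfsg.Agent.Nodes.OppDec Cfsg.Agent.Nodes.Bruhat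
open Cfsg.Lie Cfsg.Agent.ChevalleyStructure Cfsg.Agent.ChevalleyStructure.Elts
  Cfsg.Agent.ChevalleyStructure.RootVec Cfsg.Agent.ChevalleyStructure.RootVecTab
  Cfsg.Agent.ChevalleyStructure.NPerm Cfsg.Agent.ChevalleyStructure.CoxeterGeomTypes
open Cfsg.Agent.Nodes Cfsg.Agent.Nodes.RGDChev Cfsg.Agent.Nodes.RGDLib
open Cfsg.Agent.H939.RgdA Cfsg.Agent.H939.RgdTwo Cfsg.Agent.H939.ClsOf Cfsg.Agent.H939.RgdB4
  Cfsg.Agent.H939.ChevCls Cfsg.Agent.H939.InstSL Cfsg.Agent.KFacts.RgdLieCharP Cfsg.Agent.H939.RgdV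

universe u

theorem hF4 : IsType chevF4 4 CoxeterMatrix.F₄ := by simp [IsType, typeList]
theorem hG2 : IsType chevG2 2 CoxeterMatrix.G₂ := by simp [IsType, typeList]

theorem chk47 : chkCls chevF4 4 0 47 = true := by decide +kernel
theorem chk44 : chkCls chevF4 4 2 44 = true := by decide +kernel
theorem chk11 : chkCls chevG2 2 0 11 = true := by decide +kernel
theorem chk9 : chkCls chevG2 2 3 9 = true := by decide +kernel
theorem chkB : chkB4 chevF4 2 1 28 30 = true := by decide +kernel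
theorem chkC : chevF4.commTerms (chevF4.simple 1) 28 = [(30, 2, 1, 1)] := by decide +kernel

theorem simpleF : chevF4.simple 0 = 33 ∧ chevF4.simple 1 = 27 ∧ chevF4.simple 2 = 25 ∧ chevF4.simple 3 = 24 := by
  decide +kernel
theorem simpleG : chevG2.simple 0 = 7 ∧ chevG2.simple 1 = 6 := by decide +kernel

theorem walk3 : walk chevF4 ([2, 1, 2, 0, 1, 2, 3] : List (Fin 4)) 47 = 24 := by decide +kernel
theorem walk2 : walk chevF4 ([3, 1, 2, 0, 1, 2, 3] : List (Fin 4)) 47 = 25 := by decide +kernel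
theorem walk1 : walk chevF4 ([2, 3, 0, 1, 2, 1, 0] : List (Fin 4)) 44 = 27 := by decide +kernel
theorem walk0 : walk chevF4 ([1, 2, 3, 1, 2, 1, 0] : List (Fin 4)) 44 = 33 := by decide +kernel
theorem walkG1 : walk chevG2 ([0, 1] : List (Fin 2)) 11 = 6 := by decide +kernel
theorem walkG0 : walk chevG2 ([1, 0] : List (Fin 2)) 9 = 7 := by decide +kernel

section

variable {D : ChevalleyDatum} {l : ℕ} {M : CoxeterMatrix (Fin l)} (hp : IsType D l M) {W : Type*} [Group W]
  (cs : CoxeterSystem M W)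

theorem exists_w {r0 : ℕ} (hr0 : r0 < D.nroots) (i : Fin l) {s : ℕ} (hs : D.simple i = s) {ω : List (Fin l)}
    (hω : walk D ω r0 = s) : ∃ w : W, rep cs hp.isCartan w (vec D l r0) = sr i := by
  refine ⟨cs.wordProd ω, ?_⟩
  rw [(rep_walk hp cs ω hr0).2, hω, ← hs, vec_simple hp i]

end

theorem F4_entries : CoxeterMatrix.F₄ 2 1 = 4 ∧ CoxeterMatrix.F₄ 1 0 = 3 := by
  constructor <;> decide

theorem cl_F4 (K : Type u) [Field K] [Finite K] (p : ℕ) [CharP K p] [Finite ↥(chevF4.group K)]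
    [IsSimpleGroup ↥(chevF4.group K)] : KLat.CL ↥(chevF4.group K) := by
  by_cases hc : ∀ a b : ↥(chevF4.group K), a * b = b * a
  · exact cl_of_comm hc
  have : Fact p.Prime := ⟨CharP.char_is_prime K p⟩
  set cs := (CoxeterMatrix.F₄).toCoxeterSystem with hcs
  have hWf : Finite (CoxeterMatrix.F₄).Group := finite_W hF4 cs
  set R := rgd (K := K) hF4 cs p with hR
  have hX := G1_eq_top (K := K) hF4 cs
  have hconn := conn_of_simple R hX (center_bot hc)
  have hG : GG cs hF4.isCartan ((chevF4.diagonalSubgroup K).subgroupOf (chevF4.group K))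
      (fun x => (XV chevF4 4 K x).subgroupOf (chevF4.group K)) = ⊤ := by
    rw [eq_top_iff, ← hX]; exact le_sup_right
  have h47 : 47 < chevF4.nroots := by decide +kernel
  have h44 : 44 < chevF4.nroots := by decide +kernel
  obtain ⟨s0, s1, s2, s3⟩ := simpleF
  have C := cls_chev (K := K) hF4 p cs 0 (by simp) chk47
  obtain ⟨w3, hw3⟩ := exists_w hF4 cs h47 3 (s := 24) s3 walk3
  obtain ⟨w2, hw2⟩ := exists_w hF4 cs h47 2 (s := 25) s2 walk2
  by_cases h2 : (2 : K) = 0
  · have C' := cls_chev (K := K) hF4 p cs 2 (by exact_mod_cast h2) chk44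
    obtain ⟨w1, hw1⟩ := exists_w hF4 cs h44 1 (s := 27) s1 walk1
    obtain ⟨w0, hw0⟩ := exists_w hF4 cs h44 0 (s := 33) s0 walk0
    refine cl_of_all R hX hconn ?_
    intro i
    fin_cases i
    · exact ⟨_, _, w0, C', hw0⟩
    · exact ⟨_, _, w1, C', hw1⟩
    · exact ⟨_, _, w2, C, hw2⟩
    · exact ⟨_, _, w3, C, hw3⟩
  · have g3 : Good R (vec chevF4 4 47) _ 3 := good_of_class C.long hG hw3
    have g2 : Good R (vec chevF4 4 47) _ 2 := good_of_class C.long hG hw2
    have hw2' : rep cs hF4.isCartan w2⁻¹ (sr 2) = vec chevF4 4 47 := by rw [← hw2, rep_inv_apply]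
    have D := b4_chev (K := K) hF4 p cs F4_entries.1 (i := 2) (j := 1) (b := 28) (g := 30) chkB (C := 2) chkC
      (by exact_mod_cast h2) h47 hw2'
    have g1 := good_of_four D C.long hG g2
    have g0 : Good R (vec chevF4 4 47) _ 0 := good_of_three F4_entries.2 g1
    refine cl_of_good R hX hconn C ?_
    intro i
    fin_cases i
    · exact g0
    · exact g1
    · exact g2
    · exact g3

theorem cl_G2_three (K : Type u) [Field K] [Finite K] (p : ℕ) [CharP K p] (h3 : (3 : K) = 0)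
    [Finite ↥(chevG2.group K)] [IsSimpleGroup ↥(chevG2.group K)] : KLat.CL ↥(chevG2.group K) := by
  by_cases hc : ∀ a b : ↥(chevG2.group K), a * b = b * a
  · exact cl_of_comm hc
  have : Fact p.Prime := ⟨CharP.char_is_prime K p⟩
  set cs := (CoxeterMatrix.G₂).toCoxeterSystem with hcs
  have hWf : Finite (CoxeterMatrix.G₂).Group := finite_W hG2 cs
  set R := rgd (K := K) hG2 cs p with hR
  have hX := G1_eq_top (K := K) hG2 cs
  have hconn := conn_of_simple R hX (center_bot hc)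
  have h11 : 11 < chevG2.nroots := by decide +kernel
  have h9 : 9 < chevG2.nroots := by decide +kernel
  obtain ⟨s0, s1⟩ := simpleG
  have C := cls_chev (K := K) hG2 p cs 0 (by simp) chk11
  have C' := cls_chev (K := K) hG2 p cs 3 (by exact_mod_cast h3) chk9
  obtain ⟨w1, hw1⟩ := exists_w hG2 cs h11 1 (s := 6) s1 walkG1
  obtain ⟨w0, hw0⟩ := exists_w hG2 cs h9 0 (s := 7) s0 walkG0
  refine cl_of_all R hX hconn ?_
  intro i
  fin_cases i
  · exact ⟨_, _, w0, C', hw0⟩
  · exact ⟨_, _, w1, C, hw1⟩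

end Cfsg.Agent.H939.InstF4
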