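import Mathlib
import Cfsg.Agent.H939.InstF4
import Cfsg.Agent.Nodes.RGDTwActE6

/-!
Complemented subgroup lattices (S5900): `²E₆(q)`.
-/

set_option autoImplicit false
set_option linter.unusedSectionVars false
set_option linter.dupNamespace false

namespace Cfsg.Agent.H939.InstE6Tw

open CoxeterSystem Cfsg.Agent.ChevalleyStructure.CoxeterGeom Cfsg.Agent.Tits.Roots Cfsg.Agent.Tits.Core
  Cfsg.Agent.Tits.RootComb Cfsg.Agent.Nodes.Comb Cfsg.Agent.Nodes.Reps Cfsg.Agent.Nodes.BNOf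
  Cfsg.Agent.Nodes.StabComb Cfsg.Agent.Nodes.LeviDec Cfsg.Agent.Nodes.OppDec Cfsg.Agent.Nodes.Bruhat
open Cfsg.Lie Cfsg.Agent.ChevalleyStructure
open Cfsg.Agent.Nodes Cfsg.Agent.Nodes.RGDTwE6 Cfsg.Agent.Nodes.RGDTwTab Cfsg.Agent.Nodes.RGDTwCoordE6
  Cfsg.Agent.Nodes.RGDTwCoord Cfsg.Agent.Nodes.RGDTwComE6 Cfsg.Agent.Nodes.RGDTwActE6 Cfsg.Agent.Nodes.RGDLib
open Cfsg.Agent.H939.RgdA Cfsg.Agent.H939.RgdTwo Cfsg.Agent.H939.ClsOf Cfsg.Agent.H939.RgdP
  Cfsg.Agent.H939.InstSL Cfsg.Agent.H939.RgdV Cfsg.Agent.H939.RgdB4 Cfsg.Agent.KFacts.RgdLieCharP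
open scoped commutatorElement

universe u

/-- the relative roots -/
def vv (i : ℕ) : Fin 4 → ℤ := ![(vtab.getD i (0, 0, 0, 0)).1, (vtab.getD i (0, 0, 0, 0)).2.1,
  (vtab.getD i (0, 0, 0, 0)).2.2.1, (vtab.getD i (0, 0, 0, 0)).2.2.2]

variable {W : Type*} [Group W] {cs : CoxeterSystem CoxeterMatrix.F₄ W}

theorem isRoot_iff (z : Fin 4 → ℤ) : IsRoot cs isCartan z ↔ ∃ i < 48, z = vv i := by
  constructor
  · intro hz
    obtain ⟨i, hi, -, e⟩ := exists_index hz
    exact ⟨i, hi, e⟩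
  · rintro ⟨i, hi, rfl⟩
    have h1 := vec_eq hi
    rw [vv, ← h1]
    refine isRoot_V ?_
    have : ∀ i < 48, (O.getD i []).headD 0 < chevE6.nroots := by decide +kernel
    exact this i hi

/-- the walk of a vector under the fundamental reflections -/
def walk (ω : List (Fin 4)) (x : Fin 4 → ℤ) : Fin 4 → ℤ := ω.foldr (fun i x => x - pairing A i x • sr i) x

theorem rep_walk (ω : List (Fin 4)) (x : Fin 4 → ℤ) : rep cs isCartan (cs.wordProd ω) x = walk ω x := by
  induction ω with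
  | nil => rw [wordProd_nil, map_one, Module.End.one_apply]; rfl
  | cons i ω ih =>
    rw [wordProd_cons, rep_mul_apply, ih, rep_simple_eq]
    rfl

theorem exists_w {x y : Fin 4 → ℤ} {ω : List (Fin 4)} (hω : walk ω x = y) : ∃ w : W, rep cs isCartan w x = y :=
  ⟨cs.wordProd ω, by rw [rep_walk, hω]⟩

theorem w1 : walk [2, 3, 0, 1, 2, 1, 0] (vv 47) = sr 1 := by decide +kernel
theorem w0 : walk [1, 2, 3, 1, 2, 1, 0] (vv 47) = sr 0 := by decide +kernel

theorem r_dom : ∀ i : Fin 4, 0 ≤ pairing A i (vv 47) := by decide +kernel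
theorem r_orth : ∀ i : Fin 4, pairing A i (vv 47) ≠ 0 → i = 0 := by decide +kernel
theorem r_long : Lg (vv 47) := by unfold Lg; decide +kernel
theorem r_top : ∀ i < 48, (∀ k, 0 ≤ vv i k) → ∀ j < 48, vv 47 + vv i ≠ vv j := by decide +kernel
theorem r_neg : ∀ i < 48, (∀ k, 0 ≤ vv i k) → vv i ≠ -vv 47 := by decide +kernel
theorem r_two : ∀ i < 48, 2 ≤ vv i 0 → i = 47 := by decide +kernel

theorem F4_entries : CoxeterMatrix.F₄ 1 2 = 4 ∧ CoxeterMatrix.F₄ 2 3 = 3 := by
  constructor <;> decide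

section Group

variable {K : Type u} [Field K] {q : ℕ} {φ : K →+* K} [Fintype K] (hφ : ∀ x, φ x = x ^ q)
  (hqq : ∀ t : K, (t ^ q) ^ q = t) (p : ℕ) [Fact p.Prime] [CharP K p]

include hφ hqq

omit [Fintype K] hφ hqq in
theorem isRoot_r : IsRoot cs isCartan (vv 47) := (isRoot_iff _).2 ⟨47, by norm_num, rfl⟩

theorem X_pow {z : Fin 4 → ℤ} (hz : IsRoot cs isCartan z) {g : ↥(twistedE6 K q)} (hg : g ∈ X φ q z) : g ^ p = 1 := by
  obtain ⟨a, ha, rfl⟩ := (mem_X hφ hqq hz _).1 hg
  have key : ∀ m : ℕ, Ok chevE6 J O φ z (m * a) ∧ x φ q z a ^ m = x φ q z (m * a) := by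
    intro m
    induction m with
    | zero =>
      rw [Nat.cast_zero, zero_mul, pow_zero, x_zero hφ hqq hz]
      exact ⟨ok_zero z, rfl⟩
    | succ m ih =>
      obtain ⟨h1, h2⟩ := ih
      have h3 : Ok chevE6 J O φ z ((m : K) * a + a) := by
        unfold Ok at h1 ha ⊢
        rw [iterate_map_add φ, h1, ha]
      rw [Nat.cast_succ, add_mul, one_mul]
      exact ⟨h3, by rw [pow_succ, h2, x_add hφ hqq hz h1 ha]⟩
  rw [(key p).2, CharP.cast_eq_zero, zero_mul, x_zero hφ hqq hz]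

theorem X_comm {z w : Fin 4 → ℤ} (hz : IsRoot cs isCartan z) (hw : IsRoot cs isCartan w)
    (hzw : ¬ IsRoot cs isCartan (z + w)) (hne : w ≠ -z) {g k : ↥(twistedE6 K q)} (hg : g ∈ X φ q z)
    (hk : k ∈ X φ q w) : g * k = k * g := by
  obtain ⟨a, ha, rfl⟩ := (mem_X hφ hqq hz _).1 hg
  obtain ⟨b, hb, rfl⟩ := (mem_X hφ hqq hw _).1 hk
  exact comm_nil hφ hqq hz hw hzw hne a b

/-- commutators of root elements whose sum is long -/
theorem X_comm_long {z w : Fin 4 → ℤ} (hz : IsRoot cs isCartan z) (hw : IsRoot cs isCartan w)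
    (hzw : IsRoot cs isCartan (z + w)) (lzw : Lg (z + w)) {g k : ↥(twistedE6 K q)} (hg : g ∈ X φ q z)
    (hk : k ∈ X φ q w) : ⁅g, k⁆ ∈ X φ q (z + w) := by
  rcases long_or_short hz with lz | sz
  · rcases long_or_short hw with lw | sw
    · obtain ⟨a, ha, rfl⟩ := (mem_X_long hφ hqq hz lz _).1 hg
      obtain ⟨b, hb, rfl⟩ := (mem_X_long hφ hqq hw lw _).1 hk
      rw [(comm_long hφ hqq hz hw hzw lz lw ha hb).2]
      exact x_mem hφ hqq hzw (ok_long hzw lzw (by rw [map_mul, map_mul, map_intCast, ha, hb]))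
    · exfalso
      exact not_both lzw (comm_quad hφ hqq hz hw hzw lz sw (map_zero φ) 0).1
  · rcases long_or_short hw with lw | sw
    · exfalso
      have hwz : IsRoot cs isCartan (w + z) := by rwa [add_comm]
      have := (comm_quad hφ hqq hw hz hwz lw sz (map_zero φ) 0).1
      rw [add_comm] at this
      exact not_both lzw this
    · obtain ⟨a, rfl⟩ := (mem_X_short hφ hqq hz sz _).1 hg
      obtain ⟨b, rfl⟩ := (mem_X_short hφ hqq hw sw _).1 hk
      rw [comm_trace hφ hqq hz hw hzw sz sw lzw a b]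
      exact x_mem hφ hqq hzw (ok_long hzw lzw (by
        rw [map_mul, map_add, map_mul, map_mul, map_intCast, phi_phi hφ hqq, phi_phi hφ hqq, add_comm]))

theorem cls_E6 [Finite W] : Cls (rgd cs hφ hqq p) (vv 47) (X φ q (vv 47)) := by
  have hr : IsRoot cs isCartan (vv 47) := isRoot_r
  set R := rgd cs hφ hqq p with hR
  refine cls_of R hr r_dom le_rfl (X_ne_bot R hr) ?_ ?_ ?_ ?_ ?_ ?_
  · intro t ht
    exact R.tor _ hr t ht
  · intro w k hk hw
    rw [R.conj_rp hk hr, hw]
  · intro x hx h0 z hz g hg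
    refine X_comm hφ hqq hr hx ?_ ?_ hz hg
    · intro h1
      obtain ⟨i, hi, rfl⟩ := (isRoot_iff x).1 hx
      obtain ⟨j, hj, e⟩ := (isRoot_iff _).1 h1
      exact r_top i hi h0 j hj e
    · obtain ⟨i, hi, rfl⟩ := (isRoot_iff x).1 hx
      exact r_neg i hi h0
  · intro x hx y hy g hg k hk
    have hx1 : 0 < x 0 := by
      obtain ⟨-, -, k, hk, hk'⟩ := hx
      rw [mem_orth] at hk
      rwa [r_orth k hk] at hk'
    have hy1 : 0 < y 0 := by
      obtain ⟨-, -, k, hk, hk'⟩ := hy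
      rw [mem_orth] at hk
      rwa [r_orth k hk] at hk'
    show ⁅g, k⁆ ∈ _
    by_cases hxy : IsRoot cs isCartan (x + y)
    · have e : x + y = vv 47 := by
        obtain ⟨j, hj, e⟩ := (isRoot_iff _).1 hxy
        have h1 := congrFun e 0
        rw [Pi.add_apply] at h1
        have := r_two j hj (by omega)
        rw [e, this]
      have := X_comm_long hφ hqq hx.1 hy.1 hxy (by rw [e]; exact r_long) hg hk
      rwa [e] at this
    · have hne : y ≠ -x := by
        rintro rfl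
        rw [Pi.neg_apply] at hy1
        omega
      have := X_comm hφ hqq hx.1 hy.1 hxy hne hg hk
      rw [commutatorElement_eq_one_iff_mul_comm.2 this]
      exact one_mem _
  · intro x hx g hg
    rw [X_pow hφ hqq p hx.1 hg]; exact one_mem _
  · intro g hg
    exact X_pow hφ hqq p hr hg

omit [Fintype K] hφ hqq in
theorem N_eq : N (vv 29) (vv 25) = 1 ∨ N (vv 29) (vv 25) = -1 := by decide +kernel
omit [Fintype K] hφ hqq in
theorem sr2 : (sr 2 : Fin 4 → ℤ) = vv 25 := by decide +kernel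
omit [Fintype K] hφ hqq in
theorem sr1 : (sr 1 : Fin 4 → ℤ) = vv 26 := by decide +kernel
omit [Fintype K] hφ hqq in
theorem eb : rep cs isCartan (cs.simple 1) (sr 2) = vv 29 := by
  rw [rep_simple_eq]; decide +kernel
omit [Fintype K] hφ hqq in
theorem eg : rep cs isCartan (cs.simple 2) (sr 1) = vv 32 := by
  rw [rep_simple_eq]; decide +kernel

omit [Fintype K] hφ hqq in
theorem not_root {z : Fin 4 → ℤ} (h : ∀ i < 48, z ≠ vv i) : ¬ IsRoot cs isCartan z := by
  intro hz
  obtain ⟨i, hi, e⟩ := (isRoot_iff z).1 hz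
  exact h i hi e

omit [Fintype K] hφ hqq in
theorem isRoot_vv {i : ℕ} (hi : i < 48) : IsRoot cs isCartan (vv i) := (isRoot_iff _).2 ⟨i, hi, rfl⟩

/-- the trace is not zero -/
theorem exists_trace (hK : Fintype.card K = q ^ 2) : ∃ c : K, c + φ c ≠ 0 := by
  by_contra hcon
  push Not at hcon
  have h1 := hcon 1
  rw [map_one] at h1
  have h2 : ∀ c : K, c ^ q = c := by
    intro c
    have h3 := hcon c
    rw [← hφ]
    have h4 : (2 : K) = 0 := by linear_combination h1
    linear_combination h3 - c * h4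
  have hq1 : 1 < q := by
    by_contra hq
    have : Fintype.card K ≤ 1 := by
      rw [hK]
      calc q ^ 2 ≤ 1 ^ 2 := Nat.pow_le_pow_left (by omega) 2
        _ = 1 := one_pow 2
    have := Fintype.one_lt_card (α := K)
    omega
  have h5 : Fintype.card K ≤ q := by
    have hne : (Polynomial.X ^ q - Polynomial.X : Polynomial K) ≠ 0 := FiniteField.X_pow_card_sub_X_ne_zero K hq1
    have h6 : (Finset.univ : Finset K).val ≤ (Polynomial.X ^ q - Polynomial.X : Polynomial K).roots := by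
      classical
      rw [Multiset.le_iff_subset Finset.univ.nodup]
      intro c _
      rw [Polynomial.mem_roots hne, Polynomial.IsRoot.def]
      simp [h2 c]
    have h7 := Multiset.card_le_card h6
    have h8 := Polynomial.card_roots' (Polynomial.X ^ q - Polynomial.X : Polynomial K)
    rw [FiniteField.X_pow_card_sub_X_natDegree_eq K hq1] at h8
    have h9 : Multiset.card (Finset.univ : Finset K).val = Fintype.card K := rfl
    omega
  rw [hK] at h5
  nlinarith

theorem b4_E6 [Finite W] (hK : Fintype.card K = q ^ 2) :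
    B4 (rgd cs hφ hqq p) (vv 47) (X φ q (vv 47)) 1 2 (X φ q (rep cs isCartan (cs.simple 2) (sr 1))) := by
  have h29 : IsRoot cs isCartan (vv 29) := isRoot_vv (by norm_num)
  have h25 : IsRoot cs isCartan (vv 25) := isRoot_vv (by norm_num)
  have h32 : IsRoot cs isCartan (vv 32) := isRoot_vv (by norm_num)
  have h26 : IsRoot cs isCartan (vv 26) := isRoot_vv (by norm_num)
  have l32 : Lg (vv 32) := by unfold Lg; decide +kernel
  have s29 : St (vv 29) := by unfold St; decide +kernel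
  have s25 : St (vv 25) := by unfold St; decide +kernel
  have e32 : vv 25 + vv 29 = vv 32 := by decide +kernel
  have e32' : vv 29 + vv 25 = vv 32 := by decide +kernel
  set R := rgd cs hφ hqq p with hR
  refine ⟨F4_entries.1, ?_, ?_, ?_, ?_, ?_, ?_, ?_, ?_, ?_, ?_⟩
  · obtain ⟨w, hw⟩ := exists_w (cs := cs) w1
    obtain ⟨k, hk⟩ := exists_rp cs R.nsys (cs.simple 2 * w)
    refine ⟨cs.simple 2 * w, k, hk, ?_, ?_⟩
    · rw [rep_mul_apply, hw]
    · rw [R.conj_rp hk isRoot_r, rep_mul_apply, hw]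
  · rw [eb, eg, sr2]
    intro a ha b hb
    have := X_comm_long hφ hqq h25 h29 (by rw [e32]; exact h32) (by rw [e32]; exact l32) ha hb
    rwa [e32] at this
  · rw [eg, sr2]
    exact fun a ha c hc => X_comm hφ hqq h25 h32 (not_root (by decide +kernel)) (by decide +kernel) ha hc
  · rw [eb, eg]
    exact fun a ha c hc => X_comm hφ hqq h29 h32 (not_root (by decide +kernel)) (by decide +kernel) ha hc
  · rw [eb]
    exact fun a ha c hc => X_comm hφ hqq h29 h29 (not_root (by decide +kernel)) (by decide +kernel) ha hc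
  · rw [eg]
    exact fun a ha c hc => X_comm hφ hqq h32 h32 (not_root (by decide +kernel)) (by decide +kernel) ha hc
  · rw [eg, sr1]
    exact fun a ha c hc => X_comm hφ hqq h32 h26 (not_root (by decide +kernel)) (by decide +kernel) ha hc
  · rw [eg, sr1]
    exact fun a ha c hc => X_comm hφ hqq h32 h26.neg (not_root (by decide +kernel)) (by decide +kernel) ha hc
  · rw [eb, eg, sr2]
    intro a ha ha1
    obtain ⟨t, rfl⟩ := (mem_X_short hφ hqq h25 s25 _).1 ha
    have ht : t ≠ 0 := by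
      rintro rfl
      exact ha1 (x_zero hφ hqq h25)
    obtain ⟨c, hc⟩ := exists_trace hφ hqq hK
    have hφt : φ t ≠ 0 := (map_ne_zero φ).2 ht
    have e := comm_trace hφ hqq h29 h25 (by rw [e32']; exact h32) s29 s25 (by rw [e32']; exact l32) (c / φ t) t
    have e1 : c / φ t * φ t + φ (c / φ t) * t = c + φ c := by
      rw [map_div₀, phi_phi hφ hqq, div_mul_cancel₀ _ hφt, div_mul_cancel₀ _ ht]
    rw [e32', e1] at e
    have ok : Ok chevE6 J O φ (vv 32) (((N (vv 29) (vv 25) : ℤ) : K) * (c + φ c)) :=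
      ok_long h32 l32 (by rw [map_mul, map_add, map_intCast, phi_phi hφ hqq, add_comm])
    refine ⟨x φ q (vv 29) (c / φ t), (mem_X_short hφ hqq h29 s29 _).2 ⟨_, rfl⟩, ?_, ?_⟩
    · rw [e]; exact x_mem hφ hqq h32 ok
    · rw [e]
      intro h0
      rw [x_eq_one_iff hφ hqq h32 ok] at h0
      rcases mul_eq_zero.1 h0 with h1 | h1
      · rcases N_eq with h2 | h2 <;> rw [h2] at h1 <;> simp at h1
      · exact hc h1
  · intro z hz hz1 w m hm hw
    exact mu_full R ((isRoot_sr cs _ 1).act _) hz hz1 hm hw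

end Group

theorem cl_E6 (K : Type u) [Field K] [Fintype K] {q : ℕ} (hq : IsPrimePow q) (hK : Fintype.card K = q ^ 2)
    [Finite ↥(twistedE6 K q)] [IsSimpleGroup ↥(twistedE6 K q)] : KLat.CL ↥(twistedE6 K q) := by
  by_cases hc : ∀ a b : ↥(twistedE6 K q), a * b = b * a
  · exact cl_of_comm hc
  obtain ⟨p, hp⟩ := CharP.exists K
  have : Fact p.Prime := ⟨CharP.char_is_prime K p⟩
  obtain ⟨φ, hφ, hqq⟩ := Cfsg.Agent.ChevalleyStructure.TwE6Basic.exists_frob hq hK
  set cs := (CoxeterMatrix.F₄).toCoxeterSystem with hcs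
  have hWf : Finite (CoxeterMatrix.F₄).Group := RGDFold.finite_W (hp := RGDTwE6.hp) cs isCartan foldData
  set R := rgd cs hφ hqq p with hR
  have hX := RGDTwE6.G1_eq_top cs hφ hqq
  have hconn := conn_of_simple R hX (center_bot hc)
  have hG : GG cs isCartan (T K q) (X φ q) = ⊤ := by
    rw [eq_top_iff, ← hX]; exact le_sup_right
  have C : Cls R (vv 47) (X φ q (vv 47)) := cls_E6 hφ hqq p
  obtain ⟨v1, hv1⟩ := exists_w (cs := cs) w1
  obtain ⟨v0, hv0⟩ := exists_w (cs := cs) w0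
  have g1 : Good R (vv 47) _ 1 := good_of_class C.long hG hv1
  have g0 : Good R (vv 47) _ 0 := good_of_class C.long hG hv0
  have g2 := good_of_four (b4_E6 hφ hqq p hK) C.long hG g1
  have g3 : Good R (vv 47) _ 3 := good_of_three F4_entries.2 g2
  refine cl_of_good R hX hconn C ?_
  intro i
  fin_cases i
  · exact g0
  · exact g1
  · exact g2
  · exact g3

end Cfsg.Agent.H939.InstE6Tw
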