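import Cfsg.Agent.H939.KLat

/-!
Criteria for `CL G` (the subgroup lattice of `G` is complemented) by generation: a subgroup `X` of prime order
such that every `x ≠ 1` generates `G` together with a conjugate of `X`; and a counting form.
-/

set_option autoImplicit false

namespace Cfsg.Agent.H939.KLat

open Subgroup

variable {G : Type*} [Group G] [Finite G]

theorem crit_gen {X : Subgroup G} (hX : (Nat.card X).Prime)
    (h : ∀ x : G, x ≠ 1 → ∃ g : G, zpowers x ⊔ cj g X = ⊤) : CL G := by
  rw [cl_iff]
  intro H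
  by_cases h0 : H = ⊥
  · subst h0; exact hasC_bot
  by_cases h1 : H = ⊤
  · subst h1; exact hasC_top
  obtain ⟨x, hx1⟩ := Subgroup.ne_bot_iff_exists_ne_one.mp h0
  obtain ⟨g, hg⟩ := h x (fun h => hx1 (Subtype.ext h))
  have hle : zpowers (x : G) ≤ H := by rw [zpowers_le]; exact x.2
  have hc : Nat.card (cj g X) = Nat.card X :=
    (Nat.card_congr (Subgroup.equivMapOfInjective X _ (MulAut.conj g).injective).toEquiv).symm
  refine ⟨cj g X, ?_, ?_⟩
  · exact eq_top_iff.mpr (hg ▸ sup_le_sup_right hle _)
  · by_contra hne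
    have hp : (Nat.card (cj g X)).Prime := hc ▸ hX
    have : Fact (Nat.card (cj g X)).Prime := ⟨hp⟩
    rcases Subgroup.eq_bot_or_eq_top_of_prime_card ((H ⊓ cj g X).subgroupOf (cj g X)) with h2 | h2
    · apply hne
      rw [Subgroup.subgroupOf_eq_bot, disjoint_iff] at h2
      rw [← h2, inf_assoc, inf_idem]
    · rw [Subgroup.subgroupOf_eq_top] at h2
      have h3 : cj g X ≤ H := h2.trans inf_le_left
      apply h1
      exact eq_top_iff.mpr (hg ▸ sup_le hle h3)

/-- counting form: `M i` cover the proper overgroups of `X`, and the conjugacy class of each `x ≠ 1` is larger than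
the sum of its intersections with the `M i`. -/
theorem crit_count {X : Subgroup G} (hX : (Nat.card X).Prime) {ι : Type*} [Finite ι] (M : ι → Subgroup G)
    (hM : ∀ K : Subgroup G, X ≤ K → K ≠ ⊤ → ∃ i, K ≤ M i)
    (hcount : ∀ x : G, x ≠ 1 → ∑ᶠ i, Nat.card {y : G // y ∈ M i ∧ IsConj x y} < Nat.card {y : G // IsConj x y}) :
    CL G := by
  classical
  have := Fintype.ofFinite ι
  refine crit_gen hX fun x hx => ?_
  by_contra hno
  push Not at hno
  have hcov : ∀ y : G, IsConj x y → ∃ i, y ∈ M i := by
    intro y hy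
    obtain ⟨g, hg⟩ := isConj_iff.mp hy
    obtain ⟨i, hi⟩ := hM (zpowers y ⊔ X) le_sup_right (by
      intro h
      apply hno g⁻¹
      have h2 := congrArg (cj g⁻¹) h
      rw [cj_sup, cj_top] at h2
      have h3 : cj g⁻¹ (zpowers y) = zpowers x := by
        rw [show cj g⁻¹ (zpowers y) = (zpowers y).map (MulAut.conj g⁻¹).toMonoidHom from rfl,
          MonoidHom.map_zpowers]
        congr 1
        simp [← hg, mul_assoc]
      rwa [h3] at h2)
    exact ⟨i, hi (Subgroup.mem_sup_left (Subgroup.mem_zpowers y))⟩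
  have h1 := hcount x hx
  rw [finsum_eq_sum_of_fintype] at h1
  have h2 : Nat.card {y : G // IsConj x y} ≤ Nat.card (Σ i, {y : G // y ∈ M i ∧ IsConj x y}) := by
    refine Nat.card_le_card_of_injective
      (fun y => ⟨(hcov y.1 y.2).choose, y.1, (hcov y.1 y.2).choose_spec, y.2⟩) ?_
    intro a b hab
    simp only [Sigma.mk.injEq] at hab
    obtain ⟨h3, h4⟩ := hab
    have h5 : ∀ (i j : ι) (hij : i = j) (a : {y : G // y ∈ M i ∧ IsConj x y})
        (b : {y : G // y ∈ M j ∧ IsConj x y}), HEq a b → a.1 = b.1 := by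
      intro i j hij a b hab
      subst hij
      rw [eq_of_heq hab]
    exact Subtype.ext (h5 _ _ h3 _ _ h4)
  rw [Nat.card_sigma] at h2
  omega

/-- crude form: `∑ (|M i| - 1)` is smaller than every class of non-identity elements -/
theorem crit_count' {X : Subgroup G} (hX : (Nat.card X).Prime) {ι : Type*} [Finite ι] (M : ι → Subgroup G)
    (hM : ∀ K : Subgroup G, X ≤ K → K ≠ ⊤ → ∃ i, K ≤ M i)
    (hcount : ∀ x : G, x ≠ 1 → ∑ᶠ i, (Nat.card (M i) - 1) < Nat.card {y : G // IsConj x y}) :
    CL G := by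
  classical
  have := Fintype.ofFinite ι
  refine crit_count hX M hM fun x hx => lt_of_le_of_lt ?_ (hcount x hx)
  rw [finsum_eq_sum_of_fintype, finsum_eq_sum_of_fintype]
  refine Finset.sum_le_sum fun i _ => ?_
  have h1 : Nat.card {y : G // y ∈ M i ∧ IsConj x y} ≤ Nat.card {y : M i // y ≠ 1} := by
    refine Nat.card_le_card_of_injective (fun y => ⟨⟨y.1, y.2.1⟩, ?_⟩) ?_
    · intro h
      apply hx
      have h2 : y.1 = 1 := congrArg Subtype.val h
      have h3 := y.2.2
      rw [h2] at h3
      exact isConj_one_left.mp h3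
    · intro a b hab
      apply Subtype.ext
      exact congrArg (fun z => ((z : {y : M i // y ≠ 1}).1 : G)) hab
  refine h1.trans ?_
  have h3 : Nat.card {y : M i // y ≠ 1} + 1 = Nat.card (M i) := by
    have := Fintype.ofFinite (M i)
    rw [Nat.card_eq_fintype_card, Nat.card_eq_fintype_card]
    have := Fintype.card_subtype_compl (fun y : M i => y = 1)
    have h4 : Fintype.card {y : M i // y = 1} = 1 := Fintype.card_subtype_eq 1
    have h5 : 0 < Fintype.card (M i) := Fintype.card_pos
    simp only [ne_eq] at *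
    omega
  omega

end Cfsg.Agent.H939.KLat
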