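import Mathlib
import Cfsg.Agent.H939.Elem

/-!
Simple groups with TI Sylow `p`-subgroups `U` acting transitively on the other Sylow `p`-subgroups (the simple groups of
Lie type of rank one): the subgroup lattice is complemented (S5900).

* `cl_rank_one` : `U` a Sylow `p`-subgroup, `A ≤ U` normalised by `N(U)`, `A` and `U / A` elementary abelian,
  `U` TI, `|Syl_p| = |U| + 1`.
-/

set_option autoImplicit false

namespace Cfsg.Agent.H939.RankOne

open Subgroup Cfsg.Agent.H939.KLat Cfsg.Agent.H939.Opp

universe u

variable {G : Type u} [Group G] [Finite G] {p : ℕ} [Fact p.Prime]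

theorem mem_of_cj_eq (U : Sylow p G) {x : G} {k : ℕ} (hx : x ^ p ^ k = 1) (h : cj x (U : Subgroup G) = U) :
    x ∈ (U : Subgroup G) := by
  have h1 : zpowers x ≤ normalizer ((U : Subgroup G) : Set G) := by
    rw [zpowers_le, Subgroup.mem_normalizer_iff]
    intro y
    constructor
    · intro hy
      have : x * y * x⁻¹ ∈ cj x (U : Subgroup G) := conj_mem_cj hy
      rwa [h] at this
    · intro hy
      rw [← h, mem_cj] at hy
      have e : x⁻¹ * (x * y * x⁻¹) * x = y := by group
      rwa [e] at hy
  have hz : IsPGroup p (zpowers x) := by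
    rw [IsPGroup.iff_card, Nat.card_zpowers]
    exact (Nat.dvd_prime_pow Fact.out).1 (orderOf_dvd_of_pow_eq_one hx) |>.imp fun _ h => h.2
  have h2 : IsPGroup p ((U : Subgroup G) ⊔ zpowers x : Subgroup G) := IsPGroup.to_sup_of_normal_left' U.2 hz h1
  have h3 := U.3 h2 le_sup_left
  have h4 : zpowers x ≤ (U : Subgroup G) := by
    rw [← h3]; exact le_sup_right
  exact h4 (mem_zpowers x)

/-- **Groups of rank one.** -/
theorem cl_rank_one [IsSimpleGroup G] (U : Sylow p G) {A : Subgroup G} (hA : A ≤ U) (hA0 : A ≠ ⊥)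
    (hchar : ∀ g, cj g (U : Subgroup G) = U → cj g A = A)
    (hTI : ∀ V : Sylow p G, V ≠ U → (U : Subgroup G) ⊓ V = ⊥)
    (hn : Nat.card (Sylow p G) = Nat.card U + 1)
    (hel : Opp.Elem A) (hmod : Opp.ElemMod A (U : Subgroup G)) : CL G := by
  classical
  have hcoe : ∀ g : G, ((g • U : Sylow p G) : Subgroup G) = cj g (U : Subgroup G) := fun g => by
    rw [Sylow.coe_subgroup_smul]; rfl
  have hTI' : ∀ g, cj g (U : Subgroup G) ≠ U → (U : Subgroup G) ⊓ cj g (U : Subgroup G) = ⊥ := by
    intro g hg
    rw [← hcoe]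
    exact hTI _ fun h => hg (by rw [← hcoe, h])
  have hpow : ∀ x ∈ (U : Subgroup G), ∃ k : ℕ, x ^ p ^ k = 1 := by
    intro x hx
    obtain ⟨k, hk⟩ := U.2 ⟨x, hx⟩
    exact ⟨k, congrArg Subtype.val hk⟩
  -- regularity
  have hreg : ∀ s g, cj s (U : Subgroup G) ≠ U → cj g (U : Subgroup G) ≠ U →
      ∃ u ∈ (U : Subgroup G), cj g (U : Subgroup G) = cj (u * s) (U : Subgroup G) := by
    intro s g hs hg
    have : Fintype (Sylow p G) := Fintype.ofFinite _
    have : Fintype (U : Subgroup G) := Fintype.ofFinite _
    let f : ↥(U : Subgroup G) → {V : Sylow p G // V ≠ U} := fun u => ⟨((u : G) * s) • U, fun h => by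
      apply hs
      have h1 : cj ((u : G) * s) (U : Subgroup G) = U := by rw [← hcoe, h]
      rw [cj_mul] at h1
      have h2 := congrArg (cj (u : G)⁻¹) h1
      rw [cj_cj_inv, cj_eq_self_of_mem (inv_mem u.2)] at h2
      exact h2⟩
    have hinj : Function.Injective f := by
      intro u v huv
      have h1 : ((u : G) * s) • U = ((v : G) * s) • U := congrArg Subtype.val huv
      have h2 : cj ((u : G) * s) (U : Subgroup G) = cj ((v : G) * s) (U : Subgroup G) := by
        rw [← hcoe, ← hcoe, h1]
      have h3 : cj ((v : G)⁻¹ * u) (cj s (U : Subgroup G)) = cj s (U : Subgroup G) := by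
        rw [cj_mul] at h2
        rw [cj_mul, h2, cj_mul, cj_cj_inv]
      have h4 : (v : G)⁻¹ * u ∈ (U : Subgroup G) := mul_mem (inv_mem v.2) u.2
      have h5 : (v : G)⁻¹ * u ∈ cj s (U : Subgroup G) := by
        obtain ⟨k, hk⟩ := hpow _ h4
        have := mem_of_cj_eq (s • U) hk (by rw [hcoe]; exact h3)
        rw [hcoe] at this
        exact this
      have h6 : (v : G)⁻¹ * u ∈ (U : Subgroup G) ⊓ cj s (U : Subgroup G) := ⟨h4, h5⟩
      rw [hTI' s hs, Subgroup.mem_bot] at h6
      have h7 : (u : G) = v := by
        have := congrArg (fun y => (v : G) * y) h6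
        simpa using this
      exact Subtype.ext h7
    have hcard : Fintype.card (U : Subgroup G) = Fintype.card {V : Sylow p G // V ≠ U} := by
      have h1 := Fintype.card_subtype_compl (fun V : Sylow p G => V = U)
      have h2 : Fintype.card {V : Sylow p G // V = U} = 1 := Fintype.card_subtype_eq U
      rw [Nat.card_eq_fintype_card, Nat.card_eq_fintype_card] at hn
      simp only [ne_eq] at *
      omega
    have hsurj := ((Fintype.bijective_iff_injective_and_card f).2 ⟨hinj, hcard⟩).2
    obtain ⟨u, hu⟩ := hsurj ⟨g • U, fun h => hg (by rw [← hcoe, h])⟩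
    refine ⟨u, u.2, ?_⟩
    rw [← hcoe, ← hcoe]
    exact congrArg (fun V => ((V : {V : Sylow p G // V ≠ U}).1 : Subgroup G)) hu.symm
  -- a non trivial conjugate
  have hU0 : (U : Subgroup G) ≠ ⊥ := fun h => hA0 (by rw [eq_bot_iff, ← h]; exact hA)
  obtain ⟨s₀, hs₀⟩ : ∃ s₀ : G, cj s₀ (U : Subgroup G) ≠ U := by
    by_contra hcon
    push Not at hcon
    have h1 : Nat.card (Sylow p G) = 1 := by
      rw [Nat.card_eq_one_iff_unique]
      refine ⟨⟨fun V V' => ?_⟩, ⟨U⟩⟩
      have h2 : ∀ V : Sylow p G, V = U := by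
        intro V
        obtain ⟨g, hg⟩ := MulAction.exists_smul_eq G U V
        rw [← hg]
        apply Sylow.ext
        rw [hcoe, hcon]
      rw [h2 V, h2 V']
    rw [hn] at h1
    have : 0 < Nat.card (U : Subgroup G) := Nat.card_pos
    omega
  -- a swapping element
  obtain ⟨s, hs, hss⟩ : ∃ s : G, cj s (U : Subgroup G) ≠ U ∧ cj s (cj s (U : Subgroup G)) = U := by
    have h1 : cj s₀⁻¹ (U : Subgroup G) ≠ U := by
      intro h
      apply hs₀
      conv_lhs => rw [← h]
      rw [cj_inv_cj]
    obtain ⟨u, hu, e⟩ := hreg s₀ s₀⁻¹ hs₀ h1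
    refine ⟨s₀ * u, ?_, ?_⟩
    · rw [cj_mul, cj_eq_self_of_mem hu]; exact hs₀
    · have e1 : cj (s₀ * u) (U : Subgroup G) = cj s₀ U := by rw [cj_mul, cj_eq_self_of_mem hu]
      rw [e1, cj_mul, ← cj_mul u, ← e, cj_inv_cj]
  have hkey : ∀ g g', cj g (U : Subgroup G) ≠ cj g' U → Opp A s (cj g A) (cj g' A) := by
    intro g g' h
    have h1 : cj (g⁻¹ * g') (U : Subgroup G) ≠ U := by
      intro h2
      apply h
      have := congrArg (cj g) h2
      rw [cj_mul, cj_inv_cj] at this
      exact this.symm
    obtain ⟨u, hu, e⟩ := hreg s _ hs h1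
    refine ⟨g * u, ?_, ?_⟩
    · rw [cj_mul, hchar u (cj_eq_self_of_mem hu)]
    · have h2 : cj g' (U : Subgroup G) = cj (g * u * s) U := by
        have := congrArg (cj g) e
        rw [cj_mul, cj_inv_cj] at this
        rw [this, mul_assoc, cj_mul g]
      exact Opp.cj_eq_iff.2 (hchar _ (Opp.cj_eq_iff.1 h2))
  have hAU : ∀ g, cj g A = A → cj g (U : Subgroup G) = U := by
    intro g hg
    by_contra h
    have h1 := hTI' g h
    apply hA0
    rw [eq_bot_iff, ← h1]
    refine le_inf hA ?_
    rw [← hg]
    exact cj_mono hA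
  have D : OppData A (U : Subgroup G) s :=
    { ne := hA0
      le_norm := fun q hq => hchar q (cj_eq_self_of_mem hq)
      int := hmod
      elem := hel
      norm := hAU
      gen := by
        set K := (U : Subgroup G) ⊔ cj s (U : Subgroup G) with hK
        have h1 : ∀ g, cj g (U : Subgroup G) ≤ K := by
          intro g
          by_cases hg : cj g (U : Subgroup G) = U
          · rw [hg]; exact le_sup_left
          · obtain ⟨u, hu, e⟩ := hreg s g hs hg
            rw [e, cj_mul]
            have h2 : cj u K = K := cj_eq_self_of_mem ((le_sup_left : (U : Subgroup G) ≤ K) hu)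
            rw [← h2]
            exact cj_mono le_sup_right
        have h2 : Subgroup.normalClosure ((U : Subgroup G) : Set G) ≤ K := by
          rw [Subgroup.normalClosure, Subgroup.closure_le]
          intro y hy
          rw [Group.mem_conjugatesOfSet_iff] at hy
          obtain ⟨t, ht, hc⟩ := hy
          obtain ⟨c, hc⟩ := isConj_iff.mp hc
          apply h1 c
          rw [← hc]
          exact conj_mem_cj ht
        have h3 : Subgroup.normalClosure ((U : Subgroup G) : Set G) = ⊤ := by
          rcases (Subgroup.normalClosure_normal (s := ((U : Subgroup G) : Set G))).eq_bot_or_eq_top with h | h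
          · exfalso
            apply hU0
            rw [eq_bot_iff, ← h]
            exact Subgroup.subset_normalClosure
          · exact h
        rw [eq_top_iff, ← h3]
        exact h2
      r1 := by
        intro x hx hx1
        have h1 : cj s (U : Subgroup G) ≠ cj (x * s) U := by
          intro h
          obtain ⟨k, hk⟩ := hpow x (hA hx)
          have h2 := mem_of_cj_eq (s • U) hk (by rw [hcoe, ← cj_mul, ← h])
          rw [hcoe] at h2
          have h3 : x ∈ (U : Subgroup G) ⊓ cj s (U : Subgroup G) := ⟨hA hx, h2⟩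
          rw [hTI' s hs, Subgroup.mem_bot] at h3
          exact hx1 h3
        have h2 := hkey s (x * s) h1
        rw [cj_mul x s] at h2
        exact h2
      tr := by
        intro H h1 h2
        have hle : ∀ (V : Sylow p G) (P : Subgroup G), IsPGroup p P → P ⊓ V ≠ ⊥ → P ≤ V := by
          intro V P hP hPV
          obtain ⟨Q, hQ⟩ := hP.exists_le_sylow
          obtain ⟨g, hg⟩ := MulAction.exists_smul_eq G U V
          have hQV : Q = V := by
            by_contra hne
            have h3 : g⁻¹ • Q ≠ U := by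
              intro h
              apply hne
              rw [← hg, ← h, smul_inv_smul]
            have h4 := hTI _ h3
            apply hPV
            have h5 : (Q : Subgroup G) ⊓ V = ⊥ := by
              have e1 : (Q : Subgroup G) = cj g ((g⁻¹ • Q : Sylow p G) : Subgroup G) := by
                rw [Sylow.coe_subgroup_smul]
                exact (cj_inv_cj g (Q : Subgroup G)).symm
              rw [e1, ← hg, hcoe, ← cj_inf, inf_comm, h4, cj_bot]
            rw [eq_bot_iff, ← h5]
            exact inf_le_inf_right _ hQ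
          rw [← hQV]; exact hQ
        have hp1 : IsPGroup p (((U : Subgroup G)).subgroupOf H) :=
          U.2.comap_of_injective H.subtype (Subgroup.subtype_injective _)
        have hp2 : IsPGroup p ((cj s (U : Subgroup G)).subgroupOf H) := by
          rw [← hcoe]
          exact (s • U : Sylow p G).2.comap_of_injective H.subtype (Subgroup.subtype_injective _)
        obtain ⟨P, hP⟩ := hp1.exists_le_sylow
        obtain ⟨Q, hQ⟩ := hp2.exists_le_sylow
        obtain ⟨h, hh⟩ := MulAction.exists_smul_eq H P Q
        have hP1 : (P : Subgroup H).map H.subtype ≤ (U : Subgroup G) := by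
          refine hle U _ (P.2.map _) ?_
          intro h3
          apply h1
          rw [eq_bot_iff, ← h3]
          intro x hx
          exact ⟨⟨⟨x, hx.1⟩, hP (hA hx.2), rfl⟩, hA hx.2⟩
        have hQ1 : (Q : Subgroup H).map H.subtype ≤ cj s (U : Subgroup G) := by
          rw [← hcoe]
          refine hle (s • U) _ (Q.2.map _) ?_
          intro h3
          apply h2
          rw [eq_bot_iff, ← h3]
          intro x hx
          have hxs : x ∈ cj s (U : Subgroup G) := cj_mono hA hx.2
          refine ⟨⟨⟨x, hx.1⟩, hQ hxs, rfl⟩, ?_⟩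
          rw [hcoe]; exact hxs
        obtain ⟨⟨x, hx⟩, hx1⟩ := Subgroup.ne_bot_iff_exists_ne_one.1 h1
        have hx1' : x ≠ 1 := fun h3 => hx1 (Subtype.ext h3)
        have hxh : (h : G) * x * (h : G)⁻¹ ∈ cj s (U : Subgroup G) := by
          apply hQ1
          refine ⟨h * ⟨x, hx.1⟩ * h⁻¹, ?_, rfl⟩
          rw [← hh]
          show h * ⟨x, hx.1⟩ * h⁻¹ ∈ ((h • P : Sylow p H) : Subgroup H)
          rw [Sylow.coe_subgroup_smul]
          exact Subgroup.smul_mem_pointwise_smul (⟨x, hx.1⟩ : H) (MulAut.conj h) _ (hP (hA hx.2))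
        refine ⟨h, h.2, ?_⟩
        have h3 : cj (h : G) (U : Subgroup G) = cj s U := by
          by_contra hne
          have h4 : cj (s⁻¹ * h) (U : Subgroup G) ≠ U := by
            intro h5
            apply hne
            have := congrArg (cj s) h5
            rwa [cj_mul, cj_inv_cj] at this
          have h5 := hTI' _ h4
          have h6 : s⁻¹ * ((h : G) * x * (h : G)⁻¹) * s ∈ (U : Subgroup G) ⊓ cj (s⁻¹ * h) (U : Subgroup G) := by
            refine ⟨mem_cj.1 hxh, mem_cj.2 ?_⟩
            have e : (s⁻¹ * (h : G))⁻¹ * (s⁻¹ * ((h : G) * x * (h : G)⁻¹) * s) * (s⁻¹ * h) = x := by group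
            rw [e]; exact hA hx.2
          rw [h5, Subgroup.mem_bot] at h6
          apply hx1'
          have : x = (s⁻¹ * (h : G))⁻¹ * (s⁻¹ * ((h : G) * x * (h : G)⁻¹) * s) * (s⁻¹ * h) := by group
          rw [this, h6]; group
        exact Opp.cj_eq_iff.2 (hchar _ (Opp.cj_eq_iff.1 h3)) }
  have hssA : cj s (cj s A) = A := by
    rw [← cj_mul]
    exact hchar _ (by rw [cj_mul]; exact hss)
  rw [cl_iff]
  intro H
  by_cases h0 : H = ⊥
  · rw [h0]; exact hasC_bot
  -- some element of `H` moves some conjugate of `U`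
  obtain ⟨h, hh, g, hg⟩ : ∃ h ∈ H, ∃ g : G, cj h (cj g (U : Subgroup G)) ≠ cj g U := by
    by_contra hcon
    push Not at hcon
    let N : Subgroup G :=
      { carrier := {x | ∀ g : G, cj x (cj g (U : Subgroup G)) = cj g U}
        one_mem' := fun g => cj_one _
        mul_mem' := fun {a b} ha hb g => by rw [cj_mul, hb g, ha g]
        inv_mem' := fun {a} ha g => by
          have := congrArg (cj a⁻¹) (ha g)
          rw [cj_cj_inv] at this
          exact this.symm }
    have hN : N.Normal := ⟨fun n hn g x => by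
      rw [cj_mul, cj_mul, ← cj_mul g⁻¹ x, hn (g⁻¹ * x), ← cj_mul, mul_inv_cancel_left]⟩
    rcases hN.eq_bot_or_eq_top with h1 | h1
    · apply h0
      rw [eq_bot_iff, ← h1]
      intro x hx g
      exact hcon x hx g
    · apply hs
      have : s ∈ N := by rw [h1]; trivial
      have h2 := this 1
      rwa [cj_one] at h2
  refine Opp.hasC D hssA hh (g := g) ?_
  have h1 := hkey g (h * g) (by rw [cj_mul]; exact fun e => hg e.symm)
  rw [cj_mul h g] at h1
  exact h1

end Cfsg.Agent.H939.RankOne
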