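import Cfsg.Agent.H939.SporB
import Cfsg.Agent.H808.ClSpor
import Cfsg.Agent.H680.ClMathieuF
import Cfsg.Agent.H13.RankCo1
import Cfsg.Agent.H13.RankFi24
import Cfsg.Agent.H819.OverBM

/-!
# Complemented subgroup lattices: the sporadic groups (helper939, S5900)
-/

set_option autoImplicit false

namespace Cfsg.Agent.H939.SpAll

open Cfsg Cfsg.Agent.H939.KLat

variable {G : Type} [Group G] [Finite G] [IsSimpleGroup G]

theorem cl_ru (h : Spor.IsoRu G) (hb : Below (Nat.card G)) : CL G :=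
  SporB.cl_ru (NotCT.Orders.ru h) Cfsg.Agent.OrdDiv.table H808.ClSpor.known H808.ClSpor.psl hb

theorem kn : H680.Over.Kn := fun _ _ _ _ => Cfsg.Agent.S0000.result

/-- all sporadic groups -/
theorem cl_sporadic (h : IsSporadicGroup G) (hb : Below (Nat.card G)) : CL G := by
  rcases h with h | h | h | h | h | h | h | h | h | h | h | h | h | h | h | h | h | h | h | h | h | h | h | h | h | h
  · exact H680.ClMathieuF.cl_M11 h hb
  · exact H680.ClMathieuF.cl_M12 h hb
  · exact H680.ClMathieuF.cl_M22 h hb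
  · exact H680.ClMathieuF.cl_M23 h hb
  · exact H680.ClMathieuF.cl_M24 h hb
  · exact H808.ClSpor.cl_j1 h hb
  · exact H808.ClSpor.cl_j2 h hb
  · exact H808.ClSpor.cl_j3 h hb
  · exact H808.ClSpor.cl_j4 h hb
  · exact H13.RankCo1.cl_Co1 h hb
  · exact H13.RankLeech.cl_Co2 h hb
  · exact H13.RankLeech.cl_Co3 h hb
  · exact H13.RankLeech.cl_McL h hb
  · exact H13.RankLeech.cl_HS h hb
  · exact H13.RankRows.cl_Suz h hb
  · exact H13.RankRows.cl_He h hb
  · exact cl_ru h hb
  · exact H808.ClSpor.cl_on h hb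
  · exact H808.ClSpor.cl_ly h hb
  · exact H13.RankRows.cl_Fi22 h hb
  · exact H13.RankRows.cl_Fi23 h hb
  · exact H13.RankFi24.cl_Fi24 h hb
  · exact H808.ClSpor.cl_hn h hb
  · exact H808.ClSpor.cl_th h hb
  · exact H819.OverBM.cl_B kn h hb
  · exact H819.OverBM.cl_M kn h hb

end Cfsg.Agent.H939.SpAll
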